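import Groth.Agent.CodimOneAffine.Schematic
import Groth.Agent.AlgSp3.Shriek
import Groth.Agent.AlgSp2.FlatMono

/-!
# Codimension one points of spaces separated over an arbitrary base

The case of a separated base is transported along the map from an affine open of the base to the
spectrum of the integers.
-/

set_option autoImplicit false
set_option backward.isDefEq.respectTransparency false
set_option backward.isDefEq.respectTransparency.types false

universe u

open CategoryTheory CategoryTheory.Limits AlgebraicGeometry Opposite TopologicalSpace AlgSp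
open Groth.AlgSpBasic Groth.AlgSp3 Groth.AlgSp2.SectionPoint

noncomputable section

namespace Groth.CodimOneAffine

variable {S S' : Scheme.{u}} (γ : S ⟶ S')

theorem isSeparatedMor_shriek {F G : Sp S} {f : F ⟶ G} (h : IsSeparatedMor f) :
    IsSeparatedMor ((shriek γ).map f) := by
  have sq := isPullback_shriek γ (IsPullback.of_hasPullback f f)
  have e : pullback.diagonal ((shriek γ).map f) =
      (shriek γ).map (pullback.diagonal f) ≫ sq.isoPullback.hom := by
    apply pullback.hom_ext
    · rw [Category.assoc, sq.isoPullback_hom_fst, pullback.diagonal_fst, ← Functor.map_comp,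
        pullback.diagonal_fst, CategoryTheory.Functor.map_id]
    · rw [Category.assoc, sq.isoPullback_hom_snd, pullback.diagonal_snd, ← Functor.map_comp,
        pullback.diagonal_snd, CategoryTheory.Functor.map_id]
  show RepWith @IsClosedImmersion _
  rw [e]
  exact repWith_comp (repWith_shriek_map γ h) (repWith_isIso _)

theorem isSeparatedMor_of_mono_target {F G : Sp S} (hF : IsSeparatedSp F) (f : F ⟶ G)
    [Mono ((isTerminalYon S).from G)] : IsSeparatedMor f := by
  let m := (isTerminalYon S).from G
  have h := isSeparatedMor_of_isSeparatedSp (isTerminalYon S) (f ≫ m) hF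
  have sq : IsPullback (pullback.fst f f) (pullback.snd f f) (f ≫ m) (f ≫ m) :=
    Groth.AlgSp2.isPullback_comp_mono m (IsPullback.of_hasPullback f f)
  have e : pullback.diagonal f = pullback.diagonal (f ≫ m) ≫ sq.isoPullback.inv := by
    apply pullback.hom_ext
    · rw [Category.assoc, sq.isoPullback_inv_fst, pullback.diagonal_fst, pullback.diagonal_fst]
    · rw [Category.assoc, sq.isoPullback_inv_snd, pullback.diagonal_snd, pullback.diagonal_snd]
  show RepWith @IsClosedImmersion _
  rw [e]
  exact repWith_comp h (repWith_isIso _)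

theorem isSeparatedSp_yon_of_isSeparated (A : Over S) [IsSeparated A.hom] :
    IsSeparatedSp ((yon S).obj A) :=
  (repWith_diag_yon_iff @IsClosedImmersion A).2 inferInstance

variable {X : Space S}

/-- Codimension one points of a separated space lie in the schematic locus, over any base. -/
theorem isSchematicPt_of_codim_le_one' (hsep : IsSeparatedSp X.obj) (hN : IsLocNoethSp X.obj)
    {x : Points X.obj} (hx : HasAt (fun U u => ringKrullDim ↥(U.presheaf.stalk u) ≤ 1) X.obj x) :
    IsSchematicPt X.obj x := by
  obtain ⟨U₁, a₁, u₁, ha₁, hu₁, hd₁⟩ := hx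
  obtain ⟨S₁, hS₁, huS₁, -⟩ := exists_isAffineOpen_mem_and_subset (X := S) (x := U₁.hom u₁) (U := ⊤) trivial
  obtain ⟨DA, hDA, huDA, hDAS⟩ := exists_isAffineOpen_mem_and_subset (X := U₁.left) (x := u₁)
    (U := U₁.hom ⁻¹ᵁ S₁) huS₁
  let U : Over S := Over.mk (DA.ι ≫ U₁.hom)
  let jU : U ⟶ U₁ := Over.homMk DA.ι rfl
  have : Etale jU.left := inferInstanceAs (Etale DA.ι)
  let p : (yon S).obj U ⟶ X.obj := (yon S).map jU ≫ a₁
  have hp : RepWith @Etale p := repWith_comp ((repWith_yon_map_iff _ jU).2 ‹_›) ha₁
  have : IsAffine U.left := hDA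
  let u : ↥U.left := ⟨u₁, huDA⟩
  have hu : Points.ofPt p u = x := by
    show Points.ofPt ((yon S).map jU ≫ a₁) u = x
    rw [ofPt_comp_yon]; exact hu₁
  have hd : ringKrullDim (U.left.presheaf.stalk u) ≤ 1 :=
    (inv_eq_of_ofPt_eq etaleInvariant_ringKrullDim X.property hp ha₁ (hu.trans hu₁.symm)).le.trans hd₁
  have : IsLocallyNoetherian U.left := Groth.AlgSp2.isLocallyNoetherian_of_etale X.property hN hp
  have hqs := isQuasiSeparatedSp_of_sep hsep
  have hge : 0 ≤ ringKrullDim (U.left.presheaf.stalk u) := ringKrullDim_nonneg_of_nontrivial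
  by_cases h0 : ringKrullDim (U.left.presheaf.stalk u) = 0
  · exact isSchematicPt_of_qs X.property hqs ⟨U, p, u, hp, hu, h0⟩
  have h1 : ringKrullDim (U.left.presheaf.stalk u) = 1 := by
    rw [ringKrullDim_stalk_eq_coheight] at hd h0 ⊢
    have h2 : Order.coheight u ≤ 1 := by exact_mod_cast hd
    rcases ENat.le_one_iff_eq_zero_or_eq_one.1 h2 with h3 | h3
    · exact absurd (by rw [h3]; rfl) h0
    · rw [h3]; rfl
  let O : Set (Points X.obj) := Set.range (Points.ofPt p)
  have hO : IsOpen O := (isOpenMap_ofPt_of_repWith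
    (fun _ _ φ (_ : Etale φ) => Scheme.Hom.isOpenMap φ) hp).isOpen_range
  let ι := openSubι X.obj O
  have hι : RepWith @IsOpenImmersion ι := repWith_openSubι hO
  have : Mono ι := mono_of_repWith (fun _ _ k (_ : IsOpenImmersion k) => inferInstance) hι
  let X' : Space S := ⟨openSub X.obj O, isAlgSpace_openSub X.property hO⟩
  obtain ⟨p', hp'⟩ := (openSub_exists_lift_iff X.obj O p).2 fun t => ⟨t, rfl⟩
  have hpe : RepWith @Etale p' := Groth.AlgSpCartier.repWith_of_comp_mono (i := ι) (by rw [hp']; exact hp)
  have hιinj : Function.Injective (Points.map ι) := injective_map_of_repWith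
    (fun _ _ φ (_ : IsOpenImmersion φ) => φ.isOpenEmbedding.injective) hι
  have hps : RepWith @Surjective p' := repWith_surjective_of_points hpe.rep fun z => by
    obtain ⟨t, ht⟩ := range_map_openSubι.le (⟨z, rfl⟩ : Points.map ι z ∈ Set.range (Points.map ι))
    refine ⟨Points.ofScheme U t, hιinj ?_⟩
    rw [← Points.map_comp, hp', ← ofPt_eq_map]
    exact ht
  have hsep' : IsSeparatedSp X'.obj := isSeparatedSp_of_repWith hsep
    (repWith_mono (fun _ _ k (_ : IsOpenImmersion k) => (inferInstance : IsSeparated k)) hι)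
  -- the open subspace lies over an affine open of the base
  let T₁ : Over S := Over.mk S₁.ι
  let jS : T₁ ⟶ Over.mk (𝟙 S) := Over.homMk S₁.ι (Category.comp_id _)
  have hjS : RepWith @IsOpenImmersion ((yon S).map jS) :=
    (repWith_yon_map_iff _ jS).2 (inferInstanceAs (IsOpenImmersion S₁.ι))
  have hmj : Mono ((yon S).map jS) := mono_of_repWith (fun _ _ k (_ : IsOpenImmersion k) => inferInstance) hjS
  have : Mono ((isTerminalYon S).from ((yon S).obj T₁)) := by
    rw [(isTerminalYon S).hom_ext ((isTerminalYon S).from ((yon S).obj T₁)) ((yon S).map jS)]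
    exact hmj
  obtain ⟨q', -⟩ := exists_lift_of_range_openImmersion X'.property hjS ((isTerminalYon S).from X'.obj)
    (by
      rintro _ ⟨z, rfl⟩
      obtain ⟨t, rfl⟩ := surjective_ofPt_of_repWith hps z
      have hk : p' ≫ (isTerminalYon S).from X'.obj =
          (yon S).map (Over.homMk U.hom (Category.comp_id _) : U ⟶ Over.mk (𝟙 S)) ≫ 𝟙 _ :=
        (isTerminalYon S).hom_ext _ _
      rw [Points.map_ofPt, hk, ofPt_comp_yon, Groth.AlgSp2.SchematicFinLocFree.range_map_yon]
      exact ⟨⟨U.hom t, hDAS t.2⟩, by
        rw [← Category.comp_id ((yon S).map jS), ofPt_comp_yon]; rfl⟩)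
  -- transport to the spectrum of the integers
  let S' : Scheme.{u} := Spec (CommRingCat.of (ULift.{u} ℤ))
  let γ : S ⟶ S' := specULiftZIsTerminal.from S
  have : IsAffine ((Over.map γ).obj T₁).left := hS₁
  have : IsSeparated ((Over.map γ).obj T₁).hom := by
    have : IsAffineHom ((Over.map γ).obj T₁).hom := isAffineHom_of_isAffine _
    infer_instance
  let Z : Space S' := ⟨(shriek γ).obj X'.obj, (isAlgSpace_shriek_iff γ _).2 X'.property⟩
  have hZ : IsSeparatedSp Z.obj := isSeparatedSp_of_isSeparatedMor (isTerminalYon S') (((shriek γ).map q' ≫ (shriekYonIso γ T₁).hom) ≫ (isTerminalYon S').from _)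
    (Groth.AlgSpBasic.ColimitSep.isSeparatedMor_comp
      (Groth.AlgSpBasic.ColimitSep.isSeparatedMor_comp
        (isSeparatedMor_shriek γ (isSeparatedMor_of_mono_target hsep' q'))
        ((Groth.AlgSp2.repWith_isSeparated_iff (repWith_isIso (P := @IsSeparated) (shriekYonIso γ T₁).hom).rep).2
          (repWith_isIso _)))
      (isSeparatedMor_of_isSeparatedSp (isTerminalYon S') _ (isSeparatedSp_yon_of_isSeparated _)))
  let U' : Over S' := (Over.map γ).obj U
  have : IsAffine U'.left := hDA
  have : IsLocallyNoetherian U'.left := ‹IsLocallyNoetherian U.left›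
  let π : (yon S').obj U' ⟶ Z.obj := (shriekYonIso γ U).inv ≫ (shriek γ).map p'
  have hπe : RepWith @Etale π :=
    MorphismProperty.RespectsIso.precomp _ (shriekYonIso γ U).inv _ (repWith_shriek_map γ hpe)
  have hπs : RepWith @Surjective π :=
    MorphismProperty.RespectsIso.precomp _ (shriekYonIso γ U).inv _ (repWith_shriek_map γ hps)
  obtain ⟨T, j, -, hj, t, ht⟩ := exists_affine_nhd (X := Z) hZ (U := U') hπe hπs u h1
  obtain ⟨A, e, s, hes⟩ := exists_shriek_lift γ j
  have hse : (shriek γ).map s = (shriekYonIso γ A).hom ≫ (yon S').map e.hom ≫ j := by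
    rw [hes, Iso.hom_inv_id_assoc]
  have hs : RepWith @IsOpenImmersion s := repWith_of_shriek_map γ (by
    rw [hse]
    exact MorphismProperty.RespectsIso.precomp _ (shriekYonIso γ A).hom _
      (MorphismProperty.RespectsIso.precomp _ ((yon S').map e.hom) _ hj))
  obtain ⟨W, snd, fst, sq⟩ := hs.rep p'
  have sq' : IsPullback ((shriekYonIso γ W).inv ≫ (shriek γ).map fst) ((yon S').map ((Over.map γ).map snd))
      ((shriek γ).map s) π :=
    (isPullback_shriek γ sq).of_iso (shriekYonIso γ W) (Iso.refl _) (shriekYonIso γ U) (Iso.refl _)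
      (by simp) (by rw [shriekYonIso_naturality]) (by simp) (by simp [π])
  have huW : u ∈ Set.range snd.left := by
    have h : u ∈ Set.range ((Over.map γ).map snd).left := by
      rw [range_left_eq_preimage sq']
      refine ⟨Points.ofPt ((yon S').map e.inv ≫ (shriekYonIso γ A).inv) t, ?_⟩
      rw [Points.map_ofPt, Category.assoc, ← hes, ← Category.assoc, ← Functor.map_comp, Iso.inv_hom_id,
        CategoryTheory.Functor.map_id, Category.id_comp]
      exact ht
    exact h
  rw [range_left_eq_preimage sq] at huW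
  obtain ⟨a, ha⟩ := (Groth.AlgSp2.SchematicFinLocFree.range_map_yon s).le huW
  refine ⟨A, s ≫ ι, repWith_comp hs hι, a, ?_⟩
  rw [← Points.map_ofPt, ha, Points.map_ofPt, hp', hu]

end Groth.CodimOneAffine
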