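import Groth.Agent.CodimOneAffine.NormImage

/-!
# Principal images over the closure of finitely many incomparable points
-/

set_option autoImplicit false
set_option backward.isDefEq.respectTransparency false
set_option backward.isDefEq.respectTransparency.types false

universe u

noncomputable section

namespace Groth.CodimOneAffine

variable {A B : Type u} [CommRing A] [CommRing B] [Algebra A B] [Module.Finite A B]

theorem exists_principalImages_over (I : Ideal A) [IsNoetherianRing A] (p : Ideal A) [p.IsPrime]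
    (hIp : I ≤ p) (hmin : ∀ q : Ideal A, q.IsPrime → I ≤ q → q ≤ p → q = p) :
    ∃ d ∉ p, ∀ b : B, ∃ c : A, ∀ q : Ideal A, q.IsPrime → I ≤ q → d ∉ q →
      ((∃ P : Ideal B, P.IsPrime ∧ P.comap (algebraMap A B) = q ∧ b ∈ P) ↔ c ∈ q) := by
  let J : Ideal B := I.map (algebraMap A B)
  let φ : A ⧸ I →+* B ⧸ J := Ideal.quotientMap J (algebraMap A B) Ideal.le_comap_map
  have hfin : φ.Finite := by
    refine RingHom.Finite.of_comp_finite (f := Ideal.Quotient.mk I) ?_
    rw [show φ.comp (Ideal.Quotient.mk I) = (Ideal.Quotient.mk J).comp (algebraMap A B) from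
      RingHom.ext fun _ => rfl]
    exact (RingHom.Finite.of_surjective _ Ideal.Quotient.mk_surjective).comp
      (RingHom.finite_algebraMap.2 ‹_›)
  let _ : Algebra (A ⧸ I) (B ⧸ J) := φ.toAlgebra
  have : Module.Finite (A ⧸ I) (B ⧸ J) := hfin
  have hp' : (p.map (Ideal.Quotient.mk I)).IsPrime :=
    Ideal.map_isPrime_of_surjective Ideal.Quotient.mk_surjective (by rwa [Ideal.mk_ker])
  have hcomap : ∀ q : Ideal A, I ≤ q → (q.map (Ideal.Quotient.mk I)).comap (Ideal.Quotient.mk I) = q :=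
    fun q hq => by
      rw [Ideal.comap_map_of_surjective _ Ideal.Quotient.mk_surjective, ← RingHom.ker_eq_comap_bot,
        Ideal.mk_ker, sup_eq_left.2 hq]
  have hmin' : p.map (Ideal.Quotient.mk I) ∈ minimalPrimes (A ⧸ I) := by
    refine ⟨⟨hp', bot_le⟩, fun Q hQ hQle => ?_⟩
    have : Q.IsPrime := hQ.1
    have h1 := hmin (Q.comap (Ideal.Quotient.mk I)) (Ideal.IsPrime.comap _)
      ((Ideal.mk_ker (I := I)).ge.trans (Ideal.comap_mono bot_le))
      ((Ideal.comap_mono hQle).trans (hcomap p hIp).le)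
    rw [← h1]
    exact Ideal.map_comap_le
  obtain ⟨d', hd', hP⟩ := exists_principalImages (B := B ⧸ J) _ hmin'
  obtain ⟨d, rfl⟩ := Ideal.Quotient.mk_surjective d'
  refine ⟨d, fun h => hd' (Ideal.mem_map_of_mem _ h), fun b => ?_⟩
  obtain ⟨c', hc⟩ := hP (Ideal.Quotient.mk J b)
  obtain ⟨c, rfl⟩ := Ideal.Quotient.mk_surjective c'
  refine ⟨c, fun q hq hIq hdq => ?_⟩
  have hq' : (q.map (Ideal.Quotient.mk I)).IsPrime :=
    Ideal.map_isPrime_of_surjective Ideal.Quotient.mk_surjective (by rwa [Ideal.mk_ker])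
  have hmem : ∀ a, Ideal.Quotient.mk I a ∈ q.map (Ideal.Quotient.mk I) ↔ a ∈ q := fun a =>
    (SetLike.ext_iff.1 (hcomap q hIq) a)
  have h2 := hc (q.map (Ideal.Quotient.mk I)) hq' (fun h => hdq ((hmem d).1 h))
  rw [← hmem c, ← h2]
  constructor
  · rintro ⟨P, hP, hPq, hbP⟩
    have hJP : J ≤ P := Ideal.map_le_iff_le_comap.2 (hPq ▸ hIq)
    refine ⟨P.map (Ideal.Quotient.mk J),
      Ideal.map_isPrime_of_surjective Ideal.Quotient.mk_surjective (by rwa [Ideal.mk_ker]), ?_,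
      Ideal.mem_map_of_mem _ hbP⟩
    refine Ideal.comap_injective_of_surjective _ Ideal.Quotient.mk_surjective ?_
    rw [Ideal.comap_comap, hcomap q hIq,
      show (algebraMap (A ⧸ I) (B ⧸ J)).comp (Ideal.Quotient.mk I) =
        (Ideal.Quotient.mk J).comp (algebraMap A B) from RingHom.ext fun _ => rfl,
      ← Ideal.comap_comap, Ideal.comap_map_of_surjective _ Ideal.Quotient.mk_surjective,
      ← RingHom.ker_eq_comap_bot, Ideal.mk_ker, sup_eq_left.2 hJP, hPq]
  · rintro ⟨P', hP', hP'q, hbP'⟩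
    refine ⟨P'.comap (Ideal.Quotient.mk J), Ideal.IsPrime.comap _, ?_, hbP'⟩
    rw [Ideal.comap_comap,
      show (Ideal.Quotient.mk J).comp (algebraMap A B) =
        (algebraMap (A ⧸ I) (B ⧸ J)).comp (Ideal.Quotient.mk I) from RingHom.ext fun _ => rfl,
      ← Ideal.comap_comap, hP'q, hcomap q hIq]

/-- One element works near all of finitely many incomparable primes, on the closure of their union. -/
theorem exists_principalImages_finset [IsNoetherianRing A] (S : Finset (Ideal A))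
    (hS : ∀ p ∈ S, p.IsPrime) (hinc : ∀ p ∈ S, ∀ p' ∈ S, p ≤ p' → p = p') :
    ∃ d : A, (∀ p ∈ S, d ∉ p) ∧ ∀ b : B, ∃ c : A, ∀ q : Ideal A, q.IsPrime → S.inf id ≤ q → d ∉ q →
      ((∃ P : Ideal B, P.IsPrime ∧ P.comap (algebraMap A B) = q ∧ b ∈ P) ↔ c ∈ q) := by
  classical
  have hcont : ∀ q : Ideal A, q.IsPrime → ∀ T : Finset (Ideal A), T.inf id ≤ q → ∃ p ∈ T, p ≤ q :=
    fun q hq T h => by simpa using hq.inf_le'.1 h
  have hex : ∀ p : S, ∃ d ∉ (p : Ideal A), (∀ p' : S, p' ≠ p → d ∈ (p' : Ideal A)) ∧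
      ∀ b : B, ∃ c : A, ∀ q : Ideal A, q.IsPrime → S.inf id ≤ q → d ∉ q →
      ((∃ P : Ideal B, P.IsPrime ∧ P.comap (algebraMap A B) = q ∧ b ∈ P) ↔ c ∈ q) := by
    rintro ⟨p, hp⟩
    have := hS p hp
    obtain ⟨d, hd, hd'⟩ := exists_principalImages_over (B := B) (S.inf id) p (Finset.inf_le hp)
      fun q hq hle hqp => by
        obtain ⟨p', hp', hp'q⟩ := hcont q hq S hle
        exact le_antisymm hqp (hinc p' hp' p hp (hp'q.trans hqp) ▸ hp'q)
    obtain ⟨e, he, hep⟩ : ∃ e ∈ (S.erase p).inf id, e ∉ p := by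
      by_contra h
      simp only [not_exists, not_and, not_not] at h
      obtain ⟨p', hp', hle⟩ := hcont p this (S.erase p) h
      exact Finset.ne_of_mem_erase hp' (hinc p' (Finset.mem_of_mem_erase hp') p hp hle)
    refine ⟨d * e, fun h => (this.mem_or_mem h).elim hd hep, fun p' hne =>
      Ideal.mul_mem_left _ _ ((Finset.inf_le (f := id) (Finset.mem_erase.2
        ⟨fun h => hne (Subtype.ext h), p'.2⟩) : (S.erase p).inf id ≤ (p' : Ideal A)) he), fun b => ?_⟩
    obtain ⟨c, hc⟩ := hd' b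
    exact ⟨c, fun q hq hle hdq => hc q hq hle fun h => hdq (Ideal.mul_mem_right _ _ h)⟩
  choose d hd hdo hdc using hex
  have hsum : ∀ q : Ideal A, q.IsPrime → S.inf id ≤ q → ∀ f : S → A,
      ∃ p : S, (∀ p' : S, p' ≠ p → d p' ∈ q) ∧ ((∑ i, d i * f i) ∈ q ↔ d p * f p ∈ q) := by
    intro q hq hle f
    obtain ⟨p, hp, hpq⟩ := hcont q hq S hle
    refine ⟨⟨p, hp⟩, fun p' hne => hpq (hdo p' ⟨p, hp⟩ hne.symm), ?_⟩
    rw [← Finset.add_sum_erase _ _ (Finset.mem_univ (⟨p, hp⟩ : S))]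
    exact Ideal.add_mem_iff_left _ (sum_mem fun i hi =>
      Ideal.mul_mem_right _ _ (hpq (hdo i ⟨p, hp⟩ (Finset.ne_of_mem_erase hi).symm)))
  refine ⟨∑ i, d i, fun p hp h => ?_, fun b => ?_⟩
  · obtain ⟨p₁, hothers, hiff⟩ := hsum p (hS p hp) (Finset.inf_le hp) fun _ => 1
    simp only [mul_one] at hiff
    by_cases e : (⟨p, hp⟩ : S) = p₁
    · subst e
      exact hd ⟨p, hp⟩ (hiff.1 h)
    · exact hd ⟨p, hp⟩ (hothers _ e)
  · choose c hc using fun i => hdc i b
    refine ⟨∑ i, d i * c i, fun q hq hle hdq => ?_⟩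
    obtain ⟨p, hothers, hiff⟩ := hsum q hq hle c
    have hdp : d p ∉ q := fun h => hdq (sum_mem fun i _ => if e : i = p then e ▸ h else hothers i e)
    rw [hiff, hc p q hq hle hdp]
    exact ⟨fun h => Ideal.mul_mem_left _ _ h, fun h => (hq.mem_or_mem h).resolve_left hdp⟩

end Groth.CodimOneAffine
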