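import Groth.Agent.CodimOneAffine.Integral
import Groth.Agent.PropsBasic2.Reduced
import Groth.Agent.AlgSpBasic.DecentFiniteDense

/-!
# Finite sets of points of codimension at most one in affine opens: gluing

Denominators in the one-dimensional local rings give global functions with affine non-vanishing loci.
-/

set_option autoImplicit false

universe u

open CategoryTheory AlgebraicGeometry TopologicalSpace Opposite

noncomputable section

namespace Groth.CodimOneAffine

variable {X : Scheme.{u}} [IsIntegral X]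

theorem one_dim_of_ne {x : X} (hd : ringKrullDim (X.presheaf.stalk x) ≤ 1) (hne : x ≠ genericPoint X) :
    ringKrullDim (X.presheaf.stalk x) = 1 := by
  refine le_antisymm hd ?_
  by_contra hlt
  have h0 : ringKrullDim (X.presheaf.stalk x) = 0 := by
    have hnn : 0 ≤ ringKrullDim (X.presheaf.stalk x) := ringKrullDim_nonneg_of_nontrivial
    generalize ringKrullDim (X.presheaf.stalk x) = d at hd hlt hnn ⊢
    induction d with
    | bot => exact absurd hnn (by simp)
    | coe a =>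
      norm_cast at hd hlt hnn ⊢
      rcases ENat.le_one_iff_eq_zero_or_eq_one.1 hd with rfl | rfl
      · rfl
      · exact absurd le_rfl hlt
  exact hne (Groth.AlgSpBasic.eq_of_specializes_of_ringKrullDim_eq_zero h0 _
    ((genericPoint_spec X).specializes trivial)).symm

open Filter in
theorem eventually_pow_mul_mem {j : X} (hd : ringKrullDim (X.presheaf.stalk j) ≤ 1)
    {u : X.functionField} {a : X.presheaf.stalk j} (ha : algebraMap _ _ a = u)
    (hm : a ∈ IsLocalRing.maximalIdeal _) (b : X.functionField) :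
    ∀ᶠ n : ℕ in atTop, u ^ n * b ∈ L j := by
  obtain ⟨p, q, hq, hb⟩ := IsFractionRing.div_surjective (A := X.presheaf.stalk j) b
  have : Ring.KrullDimLE 1 (X.presheaf.stalk j) := Ring.krullDimLE_iff.2 hd
  obtain ⟨N, hN⟩ : a ∈ (Ideal.span {q}).radical := by
    rw [Ideal.radical_eq_sInf, Submodule.mem_sInf]
    rintro P ⟨hqP, hP⟩
    have hP0 : P ≠ ⊥ := fun h => nonZeroDivisors.ne_zero hq
      ((Submodule.mem_bot _).1 (h ▸ hqP (Ideal.mem_span_singleton_self q)))
    rwa [IsLocalRing.eq_maximalIdeal (Ideal.IsPrime.isMaximal_of_ne_bot hP hP0)]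
  refine eventually_atTop.2 ⟨N, fun n hn => ?_⟩
  obtain ⟨k, rfl⟩ := Nat.le.dest hn
  obtain ⟨c, hc⟩ := Ideal.mem_span_singleton'.1 hN
  refine ⟨c * p * a ^ k, ?_⟩
  have hq0 : algebraMap (X.presheaf.stalk j) X.functionField q ≠ 0 := fun h =>
    nonZeroDivisors.ne_zero hq (IsFractionRing.injective (X.presheaf.stalk j) X.functionField
      (h.trans (map_zero _).symm))
  rw [← hb, ← ha, pow_add, ← map_pow _ a N, ← hc, map_mul, map_mul, map_mul, map_pow]
  field_simp

open Filter in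
/-- A denominator: a unit at `e`, clearing the given poles at the other points. -/
theorem exists_denominator [X.IsSeparated] {e : X} (he : ringKrullDim (X.presheaf.stalk e) ≤ 1)
    (E' : Finset X) (hN : ∀ j ∈ E', IsNoetherianRing (X.presheaf.stalk j))
    (hd : ∀ j ∈ E', ringKrullDim (X.presheaf.stalk j) = 1) (hne : ∀ j ∈ E', e ≠ j)
    {G : Set X.functionField} (hG : G.Finite) :
    ∃ d : X.functionField, d ∈ L e ∧ d⁻¹ ∈ L e ∧ d ≠ 0 ∧
      ∀ j ∈ E', d ∈ L j ∧ ∀ b ∈ G, d * b ∈ L j := by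
  classical
  let pt : Fin E'.card → X := fun i => (E'.equivFin.symm i).1
  have : ∀ i, IsNoetherianRing (L (pt i)) := fun i =>
    have := hN _ (E'.equivFin.symm i).2
    isNoetherianRing_of_ringEquiv _ (equivL (pt i))
  obtain ⟨x, hxe, hx0, hx⟩ := Groth.Agent.S1640.result X.functionField (L e) E'.card
    (fun i => L (pt i))
    (fun i => (ringKrullDim_eq_of_ringEquiv (equivL (pt i))).symm.trans (hd _ (E'.equivFin.symm i).2))
    (fun i =>
      have : IsLocalRing (L (pt i)) := (equivL (pt i)).isLocalRing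
      Finite.of_subsingleton)
    (fun i => sup_eq_top (hne _ (E'.equivFin.symm i).2) he (hd _ (E'.equivFin.symm i).2).le)
  have hj : ∀ j ∈ E', ∃ a : X.presheaf.stalk j, algebraMap _ X.functionField a = x⁻¹ ∧
      a ∈ IsLocalRing.maximalIdeal _ := fun j hj' => by
    obtain ⟨i, hi⟩ : ∃ i, pt i = j := ⟨E'.equivFin ⟨j, hj'⟩, by simp [pt]⟩
    subst hi
    obtain ⟨hmem, hjac⟩ := hx i
    obtain ⟨a, ha⟩ := hmem
    refine ⟨a, ha, (IsLocalRing.mem_maximalIdeal a).2 fun hu => ?_⟩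
    have : IsLocalRing (L (pt i)) := (equivL (pt i)).isLocalRing
    rw [IsLocalRing.jacobson_eq_maximalIdeal _ bot_ne_top] at hjac
    refine (IsLocalRing.mem_maximalIdeal _).1 hjac ?_
    have e1 : (⟨x⁻¹, ⟨a, ha⟩⟩ : L (pt i)) = equivL (pt i) a := Subtype.ext ha.symm
    rw [e1]
    exact hu.map (equivL (pt i))
  obtain ⟨ae, hae⟩ := hxe
  have hev : ∀ᶠ n in atTop, 1 ≤ n ∧ ∀ j ∈ E', ∀ b ∈ insert (1 : X.functionField) G,
      x⁻¹ ^ n * b ∈ L j := by
    refine (eventually_ge_atTop 1).and ((eventually_all_finset E').2 fun j hj' =>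
      ((hG.insert _).eventually_all).2 fun b _ => ?_)
    obtain ⟨a, ha, hm⟩ := hj j hj'
    exact eventually_pow_mul_mem (hd j hj').le ha hm b
  obtain ⟨n, hn1, hn⟩ := hev.exists
  by_cases hu : IsUnit ae
  · have hxi : x⁻¹ ∈ L e := ⟨↑hu.unit⁻¹, by rw [← hae, map_units_inv, IsUnit.unit_spec]⟩
    refine ⟨x⁻¹ ^ n, pow_mem hxi n, ?_, pow_ne_zero _ (inv_ne_zero hx0), fun j hj' =>
      ⟨by simpa using hn j hj' 1 (Set.mem_insert _ _), fun b hb => hn j hj' b (Set.mem_insert_of_mem _ hb)⟩⟩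
    rw [inv_pow, inv_inv]
    exact pow_mem (⟨ae, hae⟩ : x ∈ L e) n
  · have h1 : IsUnit (ae ^ n + 1) := by
      by_contra hcon
      have hm : ae ^ n ∈ IsLocalRing.maximalIdeal _ :=
        Ideal.pow_mem_of_mem _ ((IsLocalRing.mem_maximalIdeal ae).2 hu) n hn1
      have h1' : (ae ^ n + 1) - ae ^ n ∈ IsLocalRing.maximalIdeal _ :=
        sub_mem ((IsLocalRing.mem_maximalIdeal _).2 hcon) hm
      rw [add_sub_cancel_left] at h1'
      exact (IsLocalRing.mem_maximalIdeal (1 : X.presheaf.stalk e)).1 h1' isUnit_one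
    have he1 : algebraMap _ X.functionField (ae ^ n + 1) = x ^ n + 1 := by
      rw [map_add, map_pow, map_one, hae]
    have hne0 : x ^ n + 1 ≠ 0 := he1 ▸ (h1.map _).ne_zero
    refine ⟨(x ^ n + 1)⁻¹, ⟨↑h1.unit⁻¹, by rw [← he1, map_units_inv, IsUnit.unit_spec]⟩,
      ⟨ae ^ n + 1, by rw [inv_inv, he1]⟩, inv_ne_zero hne0, fun j hj' => ?_⟩
    obtain ⟨a, ha, hm⟩ := hj j hj'
    obtain ⟨w, hw⟩ : IsUnit (1 + a ^ n) := by
      by_contra hcon
      have h1' : (1 + a ^ n) - a ^ n ∈ IsLocalRing.maximalIdeal _ :=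
        sub_mem ((IsLocalRing.mem_maximalIdeal _).2 hcon) (Ideal.pow_mem_of_mem _ hm n hn1)
      rw [add_sub_cancel_right] at h1'
      exact (IsLocalRing.mem_maximalIdeal (1 : X.presheaf.stalk j)).1 h1' isUnit_one
    have hw' : (1 + x⁻¹ ^ n)⁻¹ ∈ L j := ⟨↑w⁻¹, by rw [map_units_inv, hw, map_add, map_one, map_pow, ha]⟩
    have key : (x ^ n + 1)⁻¹ = x⁻¹ ^ n * (1 + x⁻¹ ^ n)⁻¹ := by
      rw [inv_pow, ← mul_inv]
      congr 1
      field_simp
    refine ⟨key ▸ mul_mem (by simpa using hn j hj' 1 (Set.mem_insert _ _)) hw', fun b hb => ?_⟩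
    rw [key, mul_right_comm]
    exact mul_mem (hn j hj' b (Set.mem_insert_of_mem _ hb)) hw'

theorem exists_section_near {y : X} {f : X.functionField} (hf : f ∈ L y) :
    ∃ (N : X.Opens) (_ : Nonempty N) (s : Γ(X, N)), y ∈ N ∧ X.germToFunctionField N s = f := by
  obtain ⟨a, rfl⟩ := hf
  obtain ⟨N, hy, s, rfl⟩ := X.presheaf.exists_germ_eq a
  have : Nonempty N := ⟨⟨y, hy⟩⟩
  exact ⟨N, this, s, hy, (X.algebraMap_germ_eq_germToFunctionField hy s).symm⟩

theorem isOpen_mem_L (f : X.functionField) : IsOpen {y : X | f ∈ L y} := by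
  refine isOpen_iff_forall_mem_open.2 fun y hy => ?_
  obtain ⟨N, _, s, hyN, rfl⟩ := exists_section_near hy
  exact ⟨N, fun z hz => germ_mem_L hz s, N.isOpen, hyN⟩

theorem exists_section_of_forall_mem (M : X.Opens) [Nonempty M] (f : X.functionField)
    (h : ∀ y ∈ M, f ∈ L y) : ∃ s : Γ(X, M), X.germToFunctionField M s = f := by
  choose N hNe s hy hs using fun y : M => exists_section_near (h y.1 y.2)
  let U : M → X.Opens := fun y => N y ⊓ M
  let t : ∀ y : M, Γ(X, U y) := fun y => X.presheaf.map (homOfLE inf_le_left).op (s y)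
  have hcompat : TopCat.Presheaf.IsCompatible X.sheaf.1 U t := by
    intro a b
    have hη : genericPoint X ∈ U a ⊓ U b :=
      ⟨⟨genericPoint_mem (N a) , genericPoint_mem M⟩, ⟨genericPoint_mem (N b), genericPoint_mem M⟩⟩
    have hne' : Nonempty ↥(U a ⊓ U b : X.Opens) := ⟨⟨_, hη⟩⟩
    have : Nonempty ↥(N a) := hNe a
    have : Nonempty ↥(N b) := hNe b
    refine @Scheme.germToFunctionField_injective X _ (U a ⊓ U b) hne' _ _ ?_
    show X.presheaf.germ _ _ _ (X.presheaf.map _ (X.presheaf.map _ (s a))) =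
      X.presheaf.germ _ _ _ (X.presheaf.map _ (X.presheaf.map _ (s b)))
    rw [X.presheaf.germ_res_apply, X.presheaf.germ_res_apply, X.presheaf.germ_res_apply,
      X.presheaf.germ_res_apply]
    exact (hs a).trans (hs b).symm
  obtain ⟨g, hg, -⟩ := TopCat.Sheaf.existsUnique_gluing' X.sheaf U M (fun y => homOfLE inf_le_right)
    (fun y hy' => TopologicalSpace.Opens.mem_iSup.2 ⟨⟨y, hy'⟩, hy ⟨y, hy'⟩, hy'⟩) t hcompat
  refine ⟨g, ?_⟩
  obtain ⟨y⟩ : Nonempty M := ‹_›
  let y' : M := ⟨y.1, y.2⟩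
  have : Nonempty ↥(N y') := hNe y'
  have hη : genericPoint X ∈ U y' := ⟨genericPoint_mem (N y'), genericPoint_mem M⟩
  have h1 := congrArg (X.presheaf.germ (U y') (genericPoint X) hη) (hg y')
  exact (X.presheaf.germ_res_apply (homOfLE inf_le_right) (genericPoint X) hη g).symm.trans
    (h1.trans ((X.presheaf.germ_res_apply (homOfLE inf_le_left) (genericPoint X) hη (s y')).trans
      (hs y')))

variable [X.IsSeparated]

/-- Finitely many points of codimension one lie in an affine open. -/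
theorem exists_affineOpen_of_dim_one (E : Finset X) (hE : E.Nonempty)
    (hN : ∀ e ∈ E, IsNoetherianRing (X.presheaf.stalk e))
    (hd : ∀ e ∈ E, ringKrullDim (X.presheaf.stalk e) = 1) :
    ∃ U : X.Opens, IsAffineOpen U ∧ ∀ e ∈ E, e ∈ U := by
  classical
  have hex : ∀ e : E, ∃ W : X.Opens, IsAffineOpen W ∧ (e : X) ∈ W := fun e => by
    obtain ⟨W, hW, hWe, -⟩ := exists_isAffineOpen_mem_and_subset (X := X) (x := (e : X)) (U := ⊤) trivial
    exact ⟨W, hW, hWe⟩
  choose W hW hWm using hex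
  have hne : ∀ e : E, Nonempty (W e) := fun e => ⟨⟨_, hWm e⟩⟩
  choose F hF hFB hFW using fun e e' : E => exists_finite_detect (hW e) (hW e')
  let G : E → Set X.functionField := fun e => ⋃ e', F e e'
  have hG : ∀ e, (G e).Finite := fun e => Set.finite_iUnion fun e' => hF e e'
  choose d hd1 hd2 hd0 hdj using fun e : E => exists_denominator (e := (e : X)) (hd _ e.2).le
    (E.erase e) (fun j hj => hN j (Finset.mem_of_mem_erase hj))
    (fun j hj => hd j (Finset.mem_of_mem_erase hj))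
    (fun j hj => (Finset.ne_of_mem_erase hj).symm) (hG e)
  let good : Set X := ⋂ e : E, ({y | d e ∈ L y} ∩ ⋂ b ∈ G e, {y | d e * b ∈ L y})
  have hgood : IsOpen good := isOpen_iInter_of_finite fun e =>
    (isOpen_mem_L _).inter ((hG e).isOpen_biInter fun b _ => isOpen_mem_L _)
  have hEgood : ∀ e' ∈ E, e' ∈ good := by
    intro e' he'
    refine Set.mem_iInter.2 fun e => ?_
    by_cases hee : (e : X) = e'
    · subst hee
      refine ⟨hd1 e, Set.mem_iInter₂.2 fun b hb => ?_⟩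
      obtain ⟨e'', hb⟩ := Set.mem_iUnion.1 hb
      exact mul_mem (hd1 e) (B_le_L (hWm e) (hFB e e'' hb))
    · obtain ⟨h1, h2⟩ := hdj e e' (Finset.mem_erase.2 ⟨Ne.symm hee, he'⟩)
      exact ⟨h1, Set.mem_iInter₂.2 h2⟩
  choose A hA hAm hAle using fun e : E => exists_isAffineOpen_mem_and_subset (X := X) (x := (e : X))
    (U := ⟨good, hgood⟩ ⊓ W e) ⟨hEgood e e.2, hWm e⟩
  let M : X.Opens := ⨆ e, A e
  have hMmem : ∀ e : E, (e : X) ∈ M := fun e => TopologicalSpace.Opens.mem_iSup.2 ⟨e, hAm e⟩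
  obtain ⟨e₀, he₀⟩ := hE
  have : Nonempty M := ⟨⟨_, hMmem ⟨e₀, he₀⟩⟩⟩
  have hMgood : ∀ y ∈ M, ∀ e : E, d e ∈ L y ∧ ∀ b ∈ G e, d e * b ∈ L y := by
    intro y hy e
    obtain ⟨e', he'⟩ := TopologicalSpace.Opens.mem_iSup.1 hy
    obtain ⟨h1, h2⟩ := Set.mem_iInter.1 (hAle e' he').1 e
    exact ⟨h1, Set.mem_iInter₂.1 h2⟩
  have hMc : IsCompact (M : Set X) := by
    show IsCompact ((⨆ e, A e : X.Opens) : Set X)
    rw [TopologicalSpace.Opens.coe_iSup]
    exact isCompact_iUnion fun e => (hA e).isCompact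
  have hMqs : IsQuasiSeparated (M : Set X) :=
    (IsQuasiSeparated.of_quasiSeparatedSpace _)
  choose s hs using fun e : E => exists_section_of_forall_mem M (d e) fun y hy => (hMgood y hy e).1
  have hsW : ∀ e, X.basicOpen (s e) ≤ W e := by
    intro e y hy
    have hyM := X.basicOpen_le _ hy
    obtain ⟨e', he'⟩ := TopologicalSpace.Opens.mem_iSup.1 hyM
    refine hFW e e' y (hAle e' he').2 fun b hb => ?_
    obtain ⟨v, hv⟩ := (Scheme.mem_basicOpen X (s e) y hyM).1 hy
    have h1 := (hMgood y hyM e).2 b (Set.mem_iUnion.2 ⟨e', hb⟩)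
    have h2 : (d e)⁻¹ ∈ L y := ⟨↑v⁻¹, by
      rw [map_units_inv, hv, X.algebraMap_germ_eq_germToFunctionField, hs]⟩
    simpa [inv_mul_cancel_left₀ (hd0 e)] using mul_mem h2 h1
  have hse : ∀ e : E, (e : X) ∈ X.basicOpen (s e) := by
    intro e
    rw [Scheme.mem_basicOpen X (s e) _ (hMmem e)]
    obtain ⟨c, hc⟩ := hd2 e
    refine IsUnit.of_mul_eq_one c (IsFractionRing.injective (X.presheaf.stalk (e : X)) X.functionField ?_)
    rw [map_mul, map_one, X.algebraMap_germ_eq_germToFunctionField, hs, hc, mul_inv_cancel₀ (hd0 e)]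
  have hglob : ∀ e : E, ∃ g : Γ(X, M), IsAffineOpen (X.basicOpen g) ∧ (e : X) ∈ X.basicOpen g := by
    intro e
    obtain ⟨h, hh, heh⟩ := (hW e).exists_basicOpen_le (V := X.basicOpen (s e)) ⟨_, hse e⟩ (hWm e)
    obtain ⟨n, y, hy⟩ := exists_eq_pow_mul_of_isCompact_of_isQuasiSeparated X M hMc hMqs (s e)
      (X.presheaf.map (homOfLE (hsW e)).op h)
    have key : X.basicOpen (y * s e) = X.basicOpen h := by
      have h1 : X.basicOpen (X.presheaf.map (homOfLE (X.basicOpen_le (s e))).op y) = X.basicOpen h := by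
        change X.basicOpen (y |_ X.basicOpen (s e)) = _
        have hu : IsUnit ((s e |_ X.basicOpen (s e)) ^ n) :=
          (X.toRingedSpace.isUnit_res_basicOpen (s e)).pow n
        rw [hy, Scheme.basicOpen_mul, X.basicOpen_of_isUnit hu, Scheme.basicOpen_res]
        exact le_antisymm (inf_le_right.trans inf_le_right) (le_inf hh (le_inf hh le_rfl))
      rw [← h1, Scheme.basicOpen_res, Scheme.basicOpen_mul, inf_comm]
    exact ⟨y * s e, key ▸ (hW e).basicOpen h, key ▸ heh⟩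
  choose g hg hge using hglob
  let P : E → Ideal Γ(X, M) := fun e =>
    (IsLocalRing.maximalIdeal (X.presheaf.stalk (e : X))).comap (X.presheaf.germ M _ (hMmem e)).hom
  have hmemP : ∀ e z, z ∈ P e ↔ (e : X) ∉ X.basicOpen z := fun e z => by
    rw [Scheme.mem_basicOpen X z _ (hMmem e)]
    exact IsLocalRing.mem_maximalIdeal _
  have hnot : ¬ ((Ideal.span (Set.range g) : Ideal Γ(X, M)) : Set Γ(X, M)) ⊆
      ⋃ e ∈ ((Finset.univ : Finset E) : Set E), (P e : Set Γ(X, M)) := fun hsub => by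
    obtain ⟨e, -, hle⟩ := (Ideal.subset_union_prime_finite (Finset.univ : Finset E).finite_toSet
      (f := P) ⟨e₀, he₀⟩ ⟨e₀, he₀⟩ fun e _ _ _ => Ideal.IsPrime.comap _).1 hsub
    exact (hmemP e (g e)).1 (hle (Ideal.subset_span ⟨e, rfl⟩)) (hge e)
  obtain ⟨z, hz, hzP⟩ := Set.not_subset.1 hnot
  refine ⟨X.basicOpen z, ?_, fun e he => ?_⟩
  · let r := (X.presheaf.map (homOfLE (X.basicOpen_le z)).op).hom
    refine isAffineOpen_of_isAffineOpen_basicOpen (X.basicOpen z) (r '' Set.range g) ?_ ?_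
    · rw [← Ideal.map_span]
      exact Ideal.eq_top_of_isUnit_mem _ (Ideal.mem_map_of_mem r hz)
        (X.toRingedSpace.isUnit_res_basicOpen z)
    · rintro _ ⟨_, ⟨e, rfl⟩, rfl⟩
      show IsAffineOpen (X.basicOpen (X.presheaf.map _ (g e)))
      rw [Scheme.basicOpen_res]
      obtain ⟨h, hh⟩ : ∃ h : Γ(X, X.basicOpen (g e)), X.basicOpen h = X.basicOpen z ⊓ X.basicOpen (g e) :=
        ⟨X.presheaf.map (homOfLE (X.basicOpen_le (g e))).op z, by
          rw [Scheme.basicOpen_res, inf_comm]⟩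
      rw [← hh]
      exact (hg e).basicOpen h
  · by_contra hn
    exact hzP (Set.mem_iUnion₂.2 ⟨⟨e, he⟩, Finset.mem_coe.2 (Finset.mem_univ _), (hmemP _ z).2 hn⟩)

/-- Finitely many points of codimension at most one of an integral separated scheme lie in an
affine open. -/
theorem exists_affineOpen (E : Finset X) (hN : ∀ e ∈ E, IsNoetherianRing (X.presheaf.stalk e))
    (hd : ∀ e ∈ E, ringKrullDim (X.presheaf.stalk e) ≤ 1) :
    ∃ U : X.Opens, IsAffineOpen U ∧ ∀ e ∈ E, e ∈ U := by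
  classical
  let E' := E.filter (· ≠ genericPoint X)
  obtain ⟨U, hU, hE', hUne⟩ : ∃ U : X.Opens, IsAffineOpen U ∧ (∀ e ∈ E', e ∈ U) ∧ Nonempty U := by
    rcases E'.eq_empty_or_nonempty with h | h
    · obtain ⟨U, hU, hη, -⟩ := exists_isAffineOpen_mem_and_subset (X := X) (x := genericPoint X)
        (U := ⊤) trivial
      exact ⟨U, hU, by simp [h], ⟨⟨_, hη⟩⟩⟩
    · obtain ⟨U, hU, hUE⟩ := exists_affineOpen_of_dim_one E' h
        (fun e he => hN e (Finset.mem_filter.1 he).1)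
        (fun e he => one_dim_of_ne (hd e (Finset.mem_filter.1 he).1) (Finset.mem_filter.1 he).2)
      exact ⟨U, hU, hUE, ⟨⟨_, hUE _ h.choose_spec⟩⟩⟩
  refine ⟨U, hU, fun e he => ?_⟩
  by_cases h : e = genericPoint X
  · exact h ▸ genericPoint_mem U
  · exact hE' e (Finset.mem_filter.2 ⟨he, h⟩)

end Groth.CodimOneAffine
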