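import Groth.Agent.CodimOneAffine.SpaceNhd
import Groth.Agent.CodimOneAffine.NormImageRel
import Groth.Agent.S0217
import Groth.Prelude.Def_Grpd

/-!
# Invariant affine opens around orbits of points of codimension at most one
-/

set_option autoImplicit false
set_option backward.isDefEq.respectTransparency false
set_option backward.isDefEq.respectTransparency.types false

universe u

open CategoryTheory CategoryTheory.Limits AlgebraicGeometry TopologicalSpace

noncomputable section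

namespace Groth.CodimOneAffine

variable {S : Scheme.{u}} (G : Grpd.GroupoidScheme S)

/-- The saturation of a set of objects. -/
def sat (Z : Set G.U) : Set G.U := G.s '' (G.t ⁻¹' Z)

theorem subset_sat (Z : Set G.U) : Z ⊆ sat G Z := fun v hv =>
  ⟨G.e v, show G.t (G.e v) ∈ Z by rw [← Scheme.Hom.comp_apply, G.e_t]; exact hv,
    by rw [← Scheme.Hom.comp_apply, G.e_s]; rfl⟩

theorem exists_comp (r₁ r₂ : G.R) (h : G.s r₁ = G.t r₂) :
    ∃ r : G.R, G.t r = G.t r₁ ∧ G.s r = G.s r₂ := by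
  obtain ⟨z, hz₁, hz₂⟩ := Scheme.Pullback.exists_preimage_pullback r₁ r₂ h
  have hid : pullback.lift (pullback.fst G.s G.t) (pullback.snd G.s G.t) pullback.condition = 𝟙 _ := by
    apply pullback.hom_ext <;> simp
  have h1 : G.c ≫ G.t = pullback.fst G.s G.t ≫ G.t := by
    have := G.comp_t _ _ (pullback.condition (f := G.s) (g := G.t))
    rwa [hid, Category.id_comp] at this
  have h2 : G.c ≫ G.s = pullback.snd G.s G.t ≫ G.s := by
    have := G.comp_s _ _ (pullback.condition (f := G.s) (g := G.t))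
    rwa [hid, Category.id_comp] at this
  refine ⟨G.c z, ?_, ?_⟩
  · rw [← Scheme.Hom.comp_apply, h1, Scheme.Hom.comp_apply, hz₁]
  · rw [← Scheme.Hom.comp_apply, h2, Scheme.Hom.comp_apply, hz₂]

theorem t_i (r : G.R) : G.t (G.i r) = G.s r := by rw [← Scheme.Hom.comp_apply, G.i_t]

theorem s_i (r : G.R) : G.s (G.i r) = G.t r := by rw [← Scheme.Hom.comp_apply, G.i_s]

theorem mem_sat_of_rel {Z : Set G.U} {r : G.R} (h : G.t r ∈ sat G Z) : G.s r ∈ sat G Z := by
  obtain ⟨r', hr', e⟩ := h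
  obtain ⟨r'', h1, h2⟩ := exists_comp G r' r e
  exact ⟨r'', show G.t r'' ∈ Z by rw [h1]; exact hr', h2⟩

theorem rel_mem_iff_sat {Z : Set G.U} (r : G.R) : G.t r ∈ sat G Z ↔ G.s r ∈ sat G Z :=
  ⟨mem_sat_of_rel G, fun h => by
    have := mem_sat_of_rel G (r := G.i r) (by rwa [t_i])
    rwa [s_i] at this⟩

theorem isClosed_sat [IsFinite G.s] {Z : Set G.U} (hZ : IsClosed Z) : IsClosed (sat G Z) :=
  G.s.isClosedMap _ (hZ.preimage G.t.continuous)

theorem finite_sat [IsFinite G.t] {Z : Set G.U} (hZ : Z.Finite) : (sat G Z).Finite :=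
  (hZ.preimage' fun z _ => G.t.finite_preimage_singleton z).image _

/-- Points of a finite orbit do not specialise to each other. -/
theorem eq_of_specializes_of_orbit [IsFinite G.s] [IsFinite G.t] (u : G.U) {o o' : G.U}
    (ho : o ∈ sat G {u}) (ho' : o' ∈ sat G {u}) (h : o ⤳ o') : o = o' := by
  by_contra hne
  -- every point of the orbit has a proper specialisation in the orbit
  have step : ∀ x ∈ sat G {u}, ∃ x' ∈ sat G {u}, x ⤳ x' ∧ x ≠ x' := by
    intro x hx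
    obtain ⟨r₁, hr₁, e₁⟩ := ho
    obtain ⟨r₂, hr₂, e₂⟩ := hx
    -- an arrow between `o` and `x`
    obtain ⟨r, hrt, hrs⟩ : ∃ r, G.t r = o ∧ G.s r = x := by
      obtain ⟨r, h1, h2⟩ := exists_comp G (G.i r₁) r₂ (by rw [s_i]; exact (show G.t r₁ = u from hr₁).trans (show G.t r₂ = u from hr₂).symm)
      exact ⟨r, h1.trans ((t_i G r₁).trans e₁), h2.trans e₂⟩
    have hcl : IsClosed (G.t '' closure {r}) := G.t.isClosedMap _ isClosed_closure
    obtain ⟨r', hr', e'⟩ : o' ∈ G.t '' closure {r} :=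
      (hrt.symm ▸ h : G.t r ⤳ o').mem_closed hcl ⟨r, subset_closure rfl, rfl⟩
    have hrr : r ⤳ r' := specializes_iff_mem_closure.2 hr'
    refine ⟨G.s r', ?_, hrs ▸ hrr.map G.s.continuous, fun e => hne ?_⟩
    · refine mem_sat_of_rel G ?_
      rw [e']; exact ho'
    · have hdis : _root_.IsDiscrete (G.s ⁻¹' {x}) := G.s.isDiscrete_preimage_singleton _
      have : DiscreteTopology ↥(G.s ⁻¹' {x}) := hdis.to_subtype
      have : (⟨r, hrs⟩ : ↥(G.s ⁻¹' {x})) = ⟨r', e.symm⟩ := ((subtype_specializes_iff _ _).2 hrr).eq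
      have hrr' : r = r' := congrArg Subtype.val this
      rw [← hrt, ← e']
      exact congrArg G.t hrr'
  have hfin := finite_sat G (Set.finite_singleton u)
  obtain ⟨m, hm⟩ := hfin.exists_minimal ⟨o, ho⟩
  obtain ⟨m', hm', hsp, hne'⟩ := step m hm.1
  exact hne' ((hsp.antisymm (hm.2 hm' hsp)).eq)

theorem exists_finite_generic_points {α : Type u} [TopologicalSpace α] [NoetherianSpace α] [QuasiSober α]
    {Z : Set α} (hZ : IsClosed Z) :
    ∃ gs : Set α, gs.Finite ∧ Z ⊆ (⋃ g ∈ gs, closure {g}) ∧ gs ⊆ Z := by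
  obtain ⟨Sset, hS, hScl, hSirr, hZS⟩ := NoetherianSpace.exists_finite_set_isClosed_irreducible hZ
  choose g hg using fun C : Sset => QuasiSober.sober (hSirr C C.2) (hScl C C.2)
  have := hS.to_subtype
  refine ⟨Set.range g, Set.finite_range g, fun z hz => ?_, ?_⟩
  · rw [hZS] at hz
    obtain ⟨C, hC, hzC⟩ := hz
    exact Set.mem_iUnion₂.2 ⟨g ⟨C, hC⟩, ⟨⟨C, hC⟩, rfl⟩, (hg ⟨C, hC⟩).symm ▸ hzC⟩
  · rintro _ ⟨C, rfl⟩
    rw [hZS]
    exact ⟨C, C.2, (hg C).mem⟩

theorem exists_invariant_affine [IsFinite G.s] [IsFinite G.t] [G.U.IsSeparated] [IsLocallyNoetherian G.U]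
    (u : G.U) (hdim : ∀ r : G.R, G.s r = u → ringKrullDim (G.U.presheaf.stalk (G.t r)) ≤ 1) :
    ∃ W : G.U.Opens, IsAffineOpen W ∧ u ∈ W ∧ G.s ⁻¹ᵁ W = G.t ⁻¹ᵁ W := by
  classical
  let Ω := (finite_sat G (Set.finite_singleton u)).toFinset
  have hΩ : ∀ o, o ∈ Ω ↔ o ∈ sat G {u} := fun o => Set.Finite.mem_toFinset _
  have huΩ : u ∈ Ω := (hΩ u).2 (subset_sat G _ rfl)
  have hdimΩ : ∀ o ∈ Ω, ringKrullDim (G.U.presheaf.stalk o) ≤ 1 := by
    intro o ho
    obtain ⟨r, hr, e⟩ := (hΩ o).1 ho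
    have := hdim (G.i r) ((s_i G r).trans hr)
    rwa [t_i, e] at this
  have hΩrel : ∀ r, G.t r ∈ Ω → G.s r ∈ Ω := fun r h => (hΩ _).2 (mem_sat_of_rel G ((hΩ _).1 h))
  -- a closed set avoiding the orbit has saturation avoiding it
  have havoid : ∀ Z : Set G.U, (∀ o ∈ Ω, o ∉ Z) → ∀ o ∈ Ω, o ∉ sat G Z := by
    rintro Z hZ o ho ⟨r, hr, rfl⟩
    refine hZ _ ((hΩ _).2 ?_) hr
    exact (rel_mem_iff_sat G r).2 ((hΩ _).1 ho)
  have hhirr : ∀ O : G.U.Opens, IsCompact (O : Set G.U) → (irreducibleComponents (O : Set G.U)).Finite := by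
    intro O hO
    have : CompactSpace ↥(O : Scheme.{u}) := isCompact_iff_compactSpace.1 hO
    have : IsNoetherian (O : Scheme.{u}) := {}
    exact (inferInstance : NoetherianSpace ↥(O : Scheme.{u})).finite_irreducibleComponents
  obtain ⟨V, hV, hΩV⟩ := Groth.Agent.S0217.result G.U hhirr Ω
    fun o ho => ⟨inferInstance, hdimΩ o ho⟩
  have hsV : IsAffineOpen (G.s ⁻¹ᵁ V) := hV.preimage G.s
  let A := Γ(G.U, V)
  let B := Γ(G.R, G.s ⁻¹ᵁ V)
  algebraize [(G.s.app V).hom]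
  have : Module.Finite A B := IsFinite.finite_app (f := G.s) V hV
  have : IsNoetherianRing A := IsLocallyNoetherian.component_noetherian ⟨V, hV⟩
  let pr : ∀ v ∈ V, PrimeSpectrum A := fun v hv => hV.primeIdealOf ⟨v, hv⟩
  have hmem : ∀ v (hv : v ∈ V) (f : A), f ∈ (pr v hv).asIdeal ↔ v ∉ G.U.basicOpen f := by
    intro v hv f
    have h := SetLike.ext_iff.1 (hV.fromSpec_preimage_basicOpen f) (pr v hv)
    have hv' : hV.fromSpec (pr v hv) = v := hV.fromSpec_primeIdealOf _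
    constructor
    · intro hf hvf
      exact h.1 (show hV.fromSpec (pr v hv) ∈ G.U.basicOpen f from hv'.symm ▸ hvf) hf
    · intro hn
      by_contra hf
      exact hn (hv' ▸ (show hV.fromSpec (pr v hv) ∈ G.U.basicOpen f from h.2 hf))
  have hmemR : ∀ r (hr : r ∈ G.s ⁻¹ᵁ V) (b : B),
      b ∈ (hsV.primeIdealOf ⟨r, hr⟩).asIdeal ↔ r ∉ G.R.basicOpen b := by
    intro r hr b
    have h := SetLike.ext_iff.1 (hsV.fromSpec_preimage_basicOpen b) (hsV.primeIdealOf ⟨r, hr⟩)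
    have hv' : hsV.fromSpec (hsV.primeIdealOf ⟨r, hr⟩) = r := hsV.fromSpec_primeIdealOf _
    constructor
    · intro hf hvf
      exact h.1 (show hsV.fromSpec _ ∈ G.R.basicOpen b from hv'.symm ▸ hvf) hf
    · intro hn
      by_contra hf
      exact hn (hv' ▸ (show hsV.fromSpec _ ∈ G.R.basicOpen b from h.2 hf))
  have hover : ∀ r (hr : r ∈ G.s ⁻¹ᵁ V),
      (hsV.primeIdealOf ⟨r, hr⟩).asIdeal.comap (algebraMap A B) = (pr (G.s r) hr).asIdeal := by
    intro r hr
    ext f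
    rw [Ideal.mem_comap, hmemR, hmem]
    show r ∉ G.R.basicOpen (G.s.app V f) ↔ _
    rw [← Scheme.preimage_basicOpen]
    rfl
  have himage : ∀ (b : B) v (hv : v ∈ V),
      (∃ P : Ideal B, P.IsPrime ∧ P.comap (algebraMap A B) = (pr v hv).asIdeal ∧ b ∈ P) ↔
        ∃ r, G.s r = v ∧ r ∉ G.R.basicOpen b := by
    intro b v hv
    constructor
    · rintro ⟨P, hP, hPq, hb⟩
      let r := hsV.fromSpec ⟨P, hP⟩
      have hr : r ∈ G.s ⁻¹ᵁ V := hsV.range_fromSpec.le ⟨_, rfl⟩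
      have hPr : hsV.primeIdealOf ⟨r, hr⟩ = ⟨P, hP⟩ :=
        hsV.fromSpec.isOpenEmbedding.injective (hsV.fromSpec_primeIdealOf _)
      refine ⟨r, ?_, (hmemR r hr b).1 (by rw [hPr]; exact hb)⟩
      have e : pr (G.s r) hr = pr v hv :=
        PrimeSpectrum.ext ((hover r hr).symm.trans (by rw [hPr]; exact hPq))
      have e' := congrArg hV.fromSpec e
      exact (hV.fromSpec_primeIdealOf ⟨G.s r, hr⟩).symm.trans (e'.trans (hV.fromSpec_primeIdealOf ⟨v, hv⟩))
    · rintro ⟨r, rfl, hr⟩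
      exact ⟨_, (hsV.primeIdealOf ⟨r, hv⟩).isPrime, hover r hv, (hmemR r hv b).2 hr⟩
  -- orbit primes
  let P₀ : Finset (Ideal A) := Ω.attach.image fun o => (pr o.1 (hΩV o.1 o.2)).asIdeal
  have hP₀ : ∀ p ∈ P₀, p.IsPrime := by
    intro p hp
    obtain ⟨o, -, rfl⟩ := Finset.mem_image.1 hp
    exact PrimeSpectrum.isPrime _
  have hspec : ∀ v (hv : v ∈ V) w (hw : w ∈ V), (pr v hv).asIdeal ≤ (pr w hw).asIdeal → v ⤳ w := by
    intro v hv w hw h
    have h2 := ((PrimeSpectrum.le_iff_specializes (pr v hv) (pr w hw)).1 h).map hV.fromSpec.continuous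
    have e₁ : hV.fromSpec (pr v hv) = v := hV.fromSpec_primeIdealOf _
    have e₂ : hV.fromSpec (pr w hw) = w := hV.fromSpec_primeIdealOf _
    change hV.fromSpec (pr v hv) ⤳ hV.fromSpec (pr w hw) at h2
    rwa [e₁, e₂] at h2
  have hinc : ∀ p ∈ P₀, ∀ p' ∈ P₀, p ≤ p' → p = p' := by
    intro p hp p' hp' hle
    obtain ⟨⟨o, ho⟩, -, rfl⟩ := Finset.mem_image.1 hp
    obtain ⟨⟨o', ho'⟩, -, rfl⟩ := Finset.mem_image.1 hp'
    obtain rfl := eq_of_specializes_of_orbit G u ((hΩ o).1 ho) ((hΩ o').1 ho') (hspec _ _ _ _ hle)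
    rfl
  obtain ⟨dT, hdTΩ, hdT⟩ := exists_principalImages_finset (A := A) (B := B) P₀ hP₀ hinc
  have hdTo : ∀ o ∈ Ω, o ∈ G.U.basicOpen dT := fun o ho => by
    by_contra hn
    exact hdTΩ _ (Finset.mem_image.2 ⟨⟨o, ho⟩, Finset.mem_attach _ _, rfl⟩)
      ((hmem o (hΩV o ho) dT).2 hn)
  let T : Set G.U := closure (Ω : Set G.U)
  have hTinf : ∀ v (hv : v ∈ V), v ∈ T → P₀.inf id ≤ (pr v hv).asIdeal := by
    intro v hv hvT
    obtain ⟨o, ho, hov⟩ : ∃ o ∈ Ω, o ⤳ v := by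
      have : T = ⋃ o ∈ (Ω : Set G.U), closure {o} := by
        show closure (Ω : Set G.U) = _
        conv_lhs => rw [← Set.biUnion_of_singleton (Ω : Set G.U)]
        exact Ω.finite_toSet.closure_biUnion _
      obtain ⟨o, ho, h⟩ := Set.mem_iUnion₂.1 (this ▸ hvT)
      exact ⟨o, ho, specializes_iff_mem_closure.2 h⟩
    refine (Finset.inf_le (Finset.mem_image.2 ⟨⟨o, ho⟩, Finset.mem_attach _ _, rfl⟩)).trans ?_
    intro f hf
    show f ∈ (pr v hv).asIdeal
    rw [hmem]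
    intro hvf
    exact (hmem o (hΩV o ho) f).1 hf (hov.mem_open (G.U.basicOpen f).isOpen hvf)
  -- components of the arrows landing in the closure of the orbit
  have : IsAffine V := hV
  have : IsAffine (G.t ⁻¹ᵁ V) := hV.preimage G.t
  have : IsLocallyNoetherian G.R := LocallyOfFiniteType.isLocallyNoetherian G.s
  have : IsNoetherian (G.t ⁻¹ᵁ V : G.R.Opens).toScheme := {}
  let RT : Set ↥(G.t ⁻¹ᵁ V) := {r | G.t r.1 ∈ T}
  have hRT : IsClosed RT := isClosed_closure.preimage (G.t.continuous.comp continuous_subtype_val)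
  have : NoetherianSpace ↥(G.t ⁻¹ᵁ V) := (inferInstance : NoetherianSpace ↥(G.t ⁻¹ᵁ V : G.R.Opens).toScheme)
  have : QuasiSober ↥(G.t ⁻¹ᵁ V) := (inferInstance : QuasiSober ↥(G.t ⁻¹ᵁ V : G.R.Opens).toScheme)
  obtain ⟨gens, hgenfin, hgens⟩ : ∃ gens : Set ↥(G.t ⁻¹ᵁ V), gens.Finite ∧
      RT ⊆ ⋃ r ∈ gens, closure {r} ∧ gens ⊆ RT := by
    obtain ⟨gs, hgs⟩ := exists_finite_generic_points hRT
    exact ⟨gs, hgs⟩
  -- bad points of the objects
  let good : G.U.Opens := ⨆ d : {d : A // PrincipalImages A B d}, G.U.basicOpen (d : A)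
  have hgood0 : ∀ v ∈ V, ringKrullDim (G.U.presheaf.stalk v) = 0 → v ∈ good := by
    intro v hv h0
    have := hV.isLocalization_stalk ⟨v, hv⟩
    let _ : Algebra A (G.U.presheaf.stalk v) := TopCat.Presheaf.algebra_section_stalk G.U.presheaf (U := V) ⟨v, hv⟩
    have hmin : (pr v hv).asIdeal ∈ minimalPrimes A := by
      rw [IsLocalization.AtPrime.ringKrullDim_eq_height (pr v hv).asIdeal] at h0
      exact Ideal.height_eq_zero_iff.1 (by exact_mod_cast h0)
    obtain ⟨d, hd, hdP⟩ := exists_principalImages (A := A) (B := B) _ hmin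
    refine Opens.mem_iSup.2 ⟨⟨d, hdP⟩, ?_⟩
    by_contra hn
    exact hd ((hmem v hv d).2 hn)
  have : IsNoetherian (V : Scheme.{u}) := {}
  have : NoetherianSpace ↥V := (inferInstance : NoetherianSpace ↥(V : Scheme.{u}))
  have : QuasiSober ↥V := (inferInstance : QuasiSober ↥(V : Scheme.{u}))
  obtain ⟨bads, hbadfin, hbads, hbadgood⟩ : ∃ bads : Set ↥V, bads.Finite ∧
      {v : ↥V | v.1 ∉ good} ⊆ ⋃ b ∈ bads, closure {b} ∧ bads ⊆ {v : ↥V | v.1 ∉ good} :=
    exists_finite_generic_points (good.isOpen.preimage continuous_subtype_val).isClosed_compl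
  -- the first closed set to remove
  let K : Set G.U := (V : Set G.U)ᶜ ∪ (T ∩ ((G.U.basicOpen dT : G.U.Opens) : Set G.U)ᶜ) ∪
    (⋃ r ∈ {r ∈ gens | G.t r.1 ∉ Ω}, closure {G.t r.1}) ∪
    (⋃ b ∈ {b ∈ bads | b.1 ∉ Ω}, closure {b.1})
  have hK : IsClosed K := ((V.isOpen.isClosed_compl.union (isClosed_closure.inter
      (G.U.basicOpen dT).isOpen.isClosed_compl)).union
    ((hgenfin.subset fun r hr => hr.1).isClosed_biUnion fun _ _ => isClosed_closure)).union
    ((hbadfin.subset fun r hr => hr.1).isClosed_biUnion fun _ _ => isClosed_closure)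
  have hΩK : ∀ o ∈ Ω, o ∉ K := by
    intro o ho
    rintro (((h | ⟨-, h⟩) | h) | h)
    · exact h (hΩV o ho)
    · exact h (hdTo o ho)
    · obtain ⟨r, ⟨hr, hrΩ⟩, hcl⟩ := Set.mem_iUnion₂.1 h
      -- `t r` lies strictly between two points of the orbit
      have hrT : G.t r.1 ∈ T := hgens.2 hr
      have hT' : T = ⋃ o ∈ (Ω : Set G.U), closure {o} := by
        show closure (Ω : Set G.U) = _
        conv_lhs => rw [← Set.biUnion_of_singleton (Ω : Set G.U)]
        exact Ω.finite_toSet.closure_biUnion _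
      obtain ⟨o', ho', hcl'⟩ := Set.mem_iUnion₂.1 (hT' ▸ hrT)
      have h1 : o' ⤳ G.t r.1 := specializes_iff_mem_closure.2 hcl'
      have h2 : G.t r.1 ⤳ o := specializes_iff_mem_closure.2 hcl
      have e := eq_of_specializes_of_orbit G u ((hΩ o').1 ho') ((hΩ o).1 ho) (h1.trans h2)
      subst e
      exact hrΩ ((h2.antisymm h1).eq ▸ ho)
    · obtain ⟨b, ⟨hb, hbΩ⟩, hcl⟩ := Set.mem_iUnion₂.1 h
      have hsp : b.1 ⤳ o := specializes_iff_mem_closure.2 hcl
      have hne : b.1 ≠ o := fun e => hbΩ (e ▸ ho)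
      refine hbadgood hb (hgood0 b.1 b.2 ?_)
      have h1 := hdimΩ o ho
      rw [ringKrullDim_stalk_eq_coheight] at h1 ⊢
      have h1' : Order.coheight o ≤ 1 := by exact_mod_cast h1
      have hlt : o < b.1 := lt_of_le_not_ge (show b.1 ⤳ o from hsp)
        fun hh => hne (hsp.antisymm hh).eq
      have h2 : Order.coheight b.1 + 1 ≤ 1 := (Order.coheight_add_one_le hlt).trans h1'
      rcases eq_or_ne (Order.coheight b.1) 0 with h3 | h3
      · rw [h3]; rfl
      · have h4 : 1 + 1 ≤ Order.coheight b.1 + 1 := by gcongr; exact Order.one_le_iff_ne_zero.2 h3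
        exact absurd (h4.trans h2) (by decide)
  let F := sat G K
  have hF : IsClosed F := isClosed_sat G hK
  have hΩF : ∀ o ∈ Ω, o ∉ F := havoid K hΩK
  have hKF : K ⊆ F := subset_sat G K
  have hFV : ∀ v, v ∉ F → v ∈ V := fun v hv => by
    by_contra hn
    exact hv (hKF (Or.inl (Or.inl (Or.inl hn))))
  -- invariance of the closure of the orbit away from `F`
  have hTinv : ∀ r, G.t r ∈ T → G.t r ∉ F → G.s r ∈ T := by
    intro r hrT hrF
    obtain ⟨g, hg, hgr⟩ := Set.mem_iUnion₂.1 (hgens.1 (show (⟨r, hFV _ hrF⟩ : ↥(G.t ⁻¹ᵁ V)) ∈ RT from hrT))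
    have hsp : g.1 ⤳ r := (specializes_iff_mem_closure.2 hgr).map continuous_subtype_val
    by_cases hgΩ : G.t g.1 ∈ Ω
    · have hs : G.s g.1 ∈ Ω := hΩrel _ hgΩ
      exact (hsp.map G.s.continuous).mem_closed isClosed_closure (subset_closure hs)
    · exact absurd (hKF (Or.inl (Or.inr (Set.mem_iUnion₂.2 ⟨g, ⟨hg, hgΩ⟩,
        specializes_iff_mem_closure.1 (hsp.map G.t.continuous)⟩)))) hrF
  -- a function with invariant non-vanishing locus on the closure of the orbit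
  obtain ⟨c, hc, hcΩ⟩ := exists_basicOpen_avoid hV hF Ω fun o ho => ⟨hΩV o ho, hΩF o ho⟩
  have hDcF : ∀ v ∈ G.U.basicOpen c, v ∉ F := fun v hv hvF => hc v (G.U.basicOpen_le c hv) hvF hv
  -- the trick: an equation for the image of the zero locus of a function pulled back along `t`
  have key : ∀ (W' : G.U.Opens) (g : Γ(G.U, W')) (e : A) (hle : G.s ⁻¹ᵁ G.U.basicOpen e ≤ G.t ⁻¹ᵁ W'),
      ∃ b : B, ∀ r, G.s r ∈ G.U.basicOpen e → (r ∈ G.R.basicOpen b ↔ G.t r ∈ G.U.basicOpen g) := by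
    intro W' g e hle
    have he : G.s ⁻¹ᵁ G.U.basicOpen e = G.R.basicOpen (G.s.app V e) := Scheme.preimage_basicOpen G.s e
    obtain ⟨k, b, hb⟩ := exists_eq_pow_mul_of_isCompact_of_isQuasiSeparated G.R (G.s ⁻¹ᵁ V)
      hsV.isCompact hsV.isQuasiSeparated (G.s.app V e)
      (G.R.presheaf.map (homOfLE (he.ge.trans hle)).op (G.t.app W' g))
    refine ⟨b, fun r hr => ?_⟩
    have e1 : G.R.basicOpen (G.s.app V e) ⊓ G.R.basicOpen b =
        G.R.basicOpen (G.s.app V e) ⊓ G.t ⁻¹ᵁ G.U.basicOpen g := by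
      rw [← Scheme.basicOpen_res _ b (homOfLE (G.R.basicOpen_le _)).op]
      change G.R.basicOpen (b |_ G.R.basicOpen (G.s.app V e)) = _
      have hu : IsUnit ((G.s.app V e |_ G.R.basicOpen (G.s.app V e)) ^ k) :=
        (G.R.toRingedSpace.isUnit_res_basicOpen _).pow k
      rw [hb, Scheme.basicOpen_mul, G.R.basicOpen_of_isUnit hu, Scheme.basicOpen_res,
        Scheme.preimage_basicOpen G.t g]
      exact le_antisymm inf_le_right (le_inf inf_le_left le_rfl)
    have hr' : r ∈ G.R.basicOpen (G.s.app V e) := he.le hr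
    exact ⟨fun hb' => (e1.le ⟨hr', hb'⟩).2, fun hb' => (e1.ge ⟨hr', hb'⟩).2⟩
  have hDcle : G.s ⁻¹ᵁ G.U.basicOpen c ≤ G.t ⁻¹ᵁ V := fun r hr => hFV _ fun h =>
    hDcF _ hr ((rel_mem_iff_sat G r).1 h)
  obtain ⟨b₁, hb₁⟩ := key V c c hDcle
  obtain ⟨c₁, hc₁⟩ := hdT b₁
  have hA₂ : ∀ v ∈ T, v ∈ G.U.basicOpen (c * c₁) ↔ v ∉ sat G (G.U.basicOpen c : Set G.U)ᶜ := by
    intro v hvT
    rw [Scheme.basicOpen_mul]
    constructor
    · rintro ⟨hv, hv₁⟩ ⟨r, hr, rfl⟩
      have hvV : G.s r ∈ V := G.U.basicOpen_le c hv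
      have hd : dT ∉ (pr _ hvV).asIdeal := fun h => hDcF _ hv (hKF (Or.inl (Or.inl (Or.inr
        ⟨hvT, (hmem _ hvV dT).1 h⟩))))
      have := (hc₁ _ (pr _ hvV).isPrime (hTinf _ hvV hvT) hd).1
        ((himage b₁ _ hvV).2 ⟨r, rfl, fun h => hr ((hb₁ r hv).1 h)⟩)
      exact (hmem _ hvV c₁).1 this hv₁
    · intro hv
      have hvc : v ∈ G.U.basicOpen c := by
        by_contra hn
        exact hv (subset_sat G _ hn)
      have hvV : v ∈ V := G.U.basicOpen_le c hvc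
      refine ⟨hvc, ?_⟩
      by_contra hn
      have hd : dT ∉ (pr _ hvV).asIdeal := fun h => hDcF _ hvc (hKF (Or.inl (Or.inl (Or.inr
        ⟨hvT, (hmem _ hvV dT).1 h⟩))))
      obtain ⟨r, rfl, hr⟩ := (himage b₁ v hvV).1
        ((hc₁ _ (pr _ hvV).isPrime (hTinf _ hvV hvT) hd).2 ((hmem _ hvV c₁).2 hn))
      exact hv ⟨r, fun h => hr ((hb₁ r hvc).2 h), rfl⟩
  let V' := G.U.basicOpen (c * c₁)
  have hV' : IsAffineOpen V' := hV.basicOpen _
  have hV'c : V' ≤ G.U.basicOpen c := by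
    show G.U.basicOpen (c * c₁) ≤ _
    rw [Scheme.basicOpen_mul]; exact inf_le_left
  -- the invariant neighbourhood inside `V'`
  let F₂ : Set G.U := sat G ((V' : Set G.U)ᶜ ∪ F)
  have hF₂ : IsClosed F₂ := isClosed_sat G (V'.isOpen.isClosed_compl.union hF)
  have hA₂F₂ : ∀ v ∈ V', v ∈ T → v ∉ F₂ := by
    rintro v hv hvT ⟨r, hr, rfl⟩
    have hnF : G.t r ∉ F := fun h => hDcF _ (hV'c hv) (mem_sat_of_rel G h)
    have hnF' : G.t (G.i r) ∉ F := by rw [t_i]; exact hDcF _ (hV'c hv)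
    have htT : G.t r ∈ T := by
      have := hTinv (G.i r) (by rw [t_i]; exact hvT) hnF'
      rwa [s_i] at this
    rcases hr with hr | hr
    · refine hr ((hA₂ _ htT).2 fun h => ?_)
      exact (hA₂ _ hvT).1 hv (mem_sat_of_rel G h)
    · exact hnF hr
  obtain ⟨h, hh, hhT⟩ := exists_basicOpen_separate hV' hF₂ (isClosed_closure (s := (Ω : Set G.U)))
    fun v hv hvF hvT => hA₂F₂ v hv hvT hvF
  set Dh := G.U.basicOpen h with hDhdef
  have hDh : IsAffineOpen Dh := hV'.basicOpen h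
  have hDhF₂ : ∀ v ∈ Dh, v ∉ F₂ := fun v hv hvF => hh v (G.U.basicOpen_le h hv) hvF hv
  let C : Set G.U := sat G (Dh : Set G.U)ᶜ
  have hC : IsClosed C := isClosed_sat G Dh.isOpen.isClosed_compl
  let O : G.U.Opens := ⟨Cᶜ, hC.isOpen_compl⟩
  have hODh : O ≤ Dh := fun v hv => by
    by_contra hn
    exact hv (subset_sat G _ hn)
  refine ⟨O, ?_, ?_, ?_⟩
  · refine isAffineOpen_of_cover_inter hDh hODh fun v hv hvO => ?_
    have hvC : v ∈ C := not_not.1 hvO
    have hvT : v ∉ T := by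
      intro hvT
      obtain ⟨r, hr, rfl⟩ := hvC
      have hrF₂ : G.t r ∉ F₂ := fun h => hDhF₂ _ hv (mem_sat_of_rel G h)
      have hrV' : G.t r ∈ V' := by
        by_contra hn
        exact hrF₂ (subset_sat G _ (Or.inl hn))
      have hvF : G.t (G.i r) ∉ F := by
        rw [t_i]; exact hDcF _ (hV'c (G.U.basicOpen_le h hv))
      have htT : G.t r ∈ T := by
        have := hTinv (G.i r) (by rw [t_i]; exact hvT) hvF
        rwa [s_i] at this
      exact hr (hhT _ hrV' htT)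
    have hvV' : v ∈ V' := G.U.basicOpen_le h hv
    have hvV : v ∈ V := G.U.basicOpen_le _ hvV'
    have hvgood : v ∈ good := by
      by_contra hn
      obtain ⟨b, hb, hbv⟩ := Set.mem_iUnion₂.1 (hbads (show (⟨v, hvV⟩ : ↥V) ∈ {v : ↥V | v.1 ∉ good} from hn))
      have hsp : b.1 ⤳ v := (specializes_iff_mem_closure.2 hbv).map continuous_subtype_val
      by_cases hbΩ : b.1 ∈ Ω
      · exact hvT (hsp.mem_closed isClosed_closure (subset_closure hbΩ))
      · exact hDcF v (hV'c hvV') (hKF (Or.inr (Set.mem_iUnion₂.2 ⟨b, ⟨hb, hbΩ⟩,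
          specializes_iff_mem_closure.1 hsp⟩)))
    obtain ⟨⟨d, hd⟩, hvd⟩ := Opens.mem_iSup.1 hvgood
    obtain ⟨e, he, hve⟩ := hV.exists_basicOpen_le (V := G.U.basicOpen d ⊓ Dh) ⟨v, hvd, hv⟩ hvV
    have hle : G.s ⁻¹ᵁ G.U.basicOpen e ≤ G.t ⁻¹ᵁ V' := fun r hr => by
      by_contra hn
      exact hDhF₂ _ (he hr).2 (mem_sat_of_rel G (subset_sat G _ (Or.inl hn)))
    obtain ⟨b, hb⟩ := key V' h e hle
    obtain ⟨c', hc'⟩ := hd b
    refine ⟨G.U.basicOpen e, hve, fun w hw => (he hw).2, hV.basicOpen e, ?_⟩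
    have e2 : O ⊓ G.U.basicOpen e = G.U.basicOpen (e * c') := by
      rw [Scheme.basicOpen_mul]
      ext w
      constructor
      · rintro ⟨hwO, hwe⟩
        refine ⟨hwe, ?_⟩
        by_contra hn
        have hwV : w ∈ V := G.U.basicOpen_le e hwe
        obtain ⟨r, rfl, hr⟩ := (himage b w hwV).1
          ((hc' _ (pr w hwV).isPrime fun h' => (hmem w hwV d).1 h' (he hwe).1).2 ((hmem w hwV c').2 hn))
        exact hwO ⟨r, fun h' => hr ((hb r hwe).2 h'), rfl⟩
      · rintro ⟨hwe, hwc⟩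
        refine ⟨?_, hwe⟩
        rintro ⟨r, hr, rfl⟩
        have hwV : G.s r ∈ V := G.U.basicOpen_le e hwe
        exact (hmem _ hwV c').1 ((hc' _ (pr _ hwV).isPrime fun h' => (hmem _ hwV d).1 h' (he hwe).1).1
          ((himage b _ hwV).2 ⟨r, rfl, fun h' => hr ((hb r hwe).1 h')⟩)) hwc
    rw [e2]
    exact hV.basicOpen _
  · refine havoid _ (fun o ho hn => (show o ∉ Dh from hn) (hhT o ?_ (subset_closure ho))) u huΩ
    exact (hA₂ o (subset_closure ho)).2 (havoid _ (fun o' ho' hn' => (show o' ∉ G.U.basicOpen c from hn') (hcΩ o' ho')) o ho)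
  · ext r
    exact not_congr (rel_mem_iff_sat G r).symm

end Groth.CodimOneAffine
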