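import Mathlib
import Groth.Agent.S1640

/-!
# Finite sets of points of codimension at most one in affine opens

On a separated integral quasi-compact scheme, finitely many points whose local rings are Noetherian
of dimension at most one lie in an affine open.
-/

set_option autoImplicit false

universe u

open CategoryTheory AlgebraicGeometry TopologicalSpace Opposite

noncomputable section

namespace Groth.CodimOneAffine

variable {X : Scheme.{u}} [IsIntegral X]

/-- The local ring at a point inside the function field. -/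
def L (x : X) : Subring X.functionField := (algebraMap (X.presheaf.stalk x) X.functionField).range

/-- The ring of an open inside the function field. -/
def B (W : X.Opens) [Nonempty W] : Subring X.functionField := (X.germToFunctionField W).hom.range

theorem germ_mem_L {W : X.Opens} [Nonempty W] {x : X} (hx : x ∈ W) (f : Γ(X, W)) :
    X.germToFunctionField W f ∈ L x :=
  ⟨X.presheaf.germ W x hx f, X.algebraMap_germ_eq_germToFunctionField hx f⟩

theorem B_le_L {W : X.Opens} [Nonempty W] {x : X} (hx : x ∈ W) : B W ≤ L x := by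
  rintro _ ⟨f, rfl⟩
  exact germ_mem_L hx f

theorem genericPoint_mem (W : X.Opens) [Nonempty W] : genericPoint X ∈ W :=
  ((genericPoint_spec X).mem_open_set_iff W.isOpen).2 (by simpa using ‹Nonempty W›)

/-- A valuation ring dominating the local ring at a point. -/
structure IsCenter (V : ValuationSubring X.functionField) (x : X) : Prop where
  mem : ∀ a : X.presheaf.stalk x, algebraMap _ X.functionField a ∈ V
  nonunit : ∀ a : X.presheaf.stalk x, a ∈ IsLocalRing.maximalIdeal _ →
    algebraMap _ X.functionField a ∈ V.nonunits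

theorem isCenter_unique [X.IsSeparated] {V : ValuationSubring X.functionField} {x x' : X}
    (h : IsCenter V x) (h' : IsCenter V x') : x = x' := by
  have key : ∀ {z : X} (hz : IsCenter V z),
      ∃ f : Spec (CommRingCat.of V) ⟶ X, f (IsLocalRing.closedPoint V) = z ∧
        Spec.map (CommRingCat.ofHom V.subtype) ≫ f = X.fromSpecStalk (genericPoint X) := by
    intro z hz
    let φ : X.presheaf.stalk z →+* V :=
      (algebraMap (X.presheaf.stalk z) X.functionField).codRestrict V.toSubring hz.mem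
    have : IsLocalHom φ := ⟨fun a ha => by
      by_contra hn
      have := hz.nonunit a ((IsLocalRing.mem_maximalIdeal a).2 hn)
      exact (ValuationSubring.coe_mem_nonunits_iff (a := φ a)).1 this ha⟩
    refine ⟨Spec.map (CommRingCat.ofHom φ) ≫ X.fromSpecStalk z, ?_, ?_⟩
    · show X.fromSpecStalk z (PrimeSpectrum.comap φ (IsLocalRing.closedPoint V)) = z
      rw [IsLocalRing.comap_closedPoint φ]
      exact Scheme.fromSpecStalk_closedPoint
    · rw [← Category.assoc, ← Spec.map_comp]
      have e : CommRingCat.ofHom φ ≫ CommRingCat.ofHom V.subtype =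
          X.presheaf.stalkSpecializes ((genericPoint_spec X).specializes trivial) := by
        ext a; rfl
      rw [e, Scheme.SpecMap_stalkSpecializes_fromSpecStalk]
  obtain ⟨f, hf, hfη⟩ := key h
  obtain ⟨g, hg, hgη⟩ := key h'
  have : IsDominant (Spec.map (CommRingCat.ofHom V.subtype)) :=
    ⟨(PrimeSpectrum.denseRange_comap_iff_ker_le_nilRadical _).2 (fun a ha => by
      have ha' : (a : V) = 0 := Subtype.ext (RingHom.mem_ker.1 ha)
      exact ha' ▸ zero_mem _)⟩
  have e : f = g := ext_of_isDominant (Spec.map (CommRingCat.ofHom V.subtype)) (hfη.trans hgη.symm)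
  exact hf.symm.trans ((congrArg (fun k : Spec (CommRingCat.of V) ⟶ X =>
    k (IsLocalRing.closedPoint V)) e).trans hg)

theorem exists_center {W : X.Opens} [Nonempty W] (hW : IsAffineOpen W)
    {V : ValuationSubring X.functionField} (h : B W ≤ V.toSubring) :
    ∃ x ∈ W, IsCenter V x := by
  let ψ : Γ(X, W) →+* V :=
    (X.germToFunctionField W).hom.codRestrict V.toSubring fun f => h ⟨f, rfl⟩
  let p : PrimeSpectrum Γ(X, W) := PrimeSpectrum.comap ψ (IsLocalRing.closedPoint V)
  let x : W := ⟨hW.fromSpec p, hW.range_fromSpec.le ⟨p, rfl⟩⟩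
  have hp : (hW.primeIdealOf x).asIdeal = p.asIdeal := by
    have : hW.primeIdealOf x = p := hW.fromSpec.isOpenEmbedding.injective (hW.fromSpec_primeIdealOf x)
    rw [this]
  have := hW.isLocalization_stalk x
  let _ : Algebra Γ(X, W) (X.presheaf.stalk x.1) := TopCat.Presheaf.algebra_section_stalk X.presheaf x
  have e : ∀ f : Γ(X, W), algebraMap (X.presheaf.stalk x.1) X.functionField
      (algebraMap Γ(X, W) (X.presheaf.stalk x.1) f) = (ψ f : X.functionField) := fun f =>
    X.algebraMap_germ_eq_germToFunctionField x.2 f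
  have hdiv : ∀ a : X.presheaf.stalk x.1, ∃ (s t : Γ(X, W)), t ∉ p.asIdeal ∧
      a * algebraMap Γ(X, W) _ t = algebraMap Γ(X, W) _ s ∧
      algebraMap _ X.functionField a = ((ψ s : X.functionField)) * (ψ t : X.functionField)⁻¹ := by
    intro a
    obtain ⟨⟨s, t⟩, hst⟩ := IsLocalization.surj (hW.primeIdealOf x).asIdeal.primeCompl a
    have ht : (t : Γ(X, W)) ∉ p.asIdeal := hp ▸ t.2
    refine ⟨s, t, ht, hst, ?_⟩
    have h0 : (ψ t : X.functionField) ≠ 0 := fun h0 => ht (by
      show ψ t ∈ IsLocalRing.maximalIdeal V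
      rw [show ψ t = 0 from Subtype.ext h0]
      exact zero_mem _)
    rw [eq_mul_inv_iff_mul_eq₀ h0, ← e, ← e, ← map_mul, hst]
  have hu : ∀ t, t ∉ p.asIdeal → (ψ t : X.functionField)⁻¹ ∈ V := by
    intro t ht
    obtain ⟨v, hv⟩ : IsUnit (ψ t) := by
      by_contra hn
      exact ht ((IsLocalRing.mem_maximalIdeal _).2 hn)
    rw [← hv, show ((v : V) : X.functionField)⁻¹ = ((↑v⁻¹ : V) : X.functionField) from
      (map_units_inv V.subtype v).symm]
    exact Subtype.prop _
  refine ⟨x, x.2, ⟨fun a => ?_, fun a ha => ?_⟩⟩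
  · obtain ⟨s, t, ht, -, he⟩ := hdiv a
    rw [he]
    exact V.mul_mem _ _ (ψ s).2 (hu t ht)
  · obtain ⟨s, t, ht, hst, he⟩ := hdiv a
    have hs : s ∈ p.asIdeal := by
      rw [← hp]
      have := Ideal.mul_mem_right (algebraMap Γ(X, W) _ t) _ ha
      rw [hst] at this
      exact (IsLocalization.AtPrime.to_map_mem_maximal_iff _ (hW.primeIdealOf x).asIdeal s).1 this
    rw [he, show (ψ t : X.functionField)⁻¹ = ((⟨_, hu t ht⟩ : V) : X.functionField) from rfl]
    refine (ValuationSubring.coe_mem_nonunits_iff (a := ψ s * ⟨_, hu t ht⟩)).2 ?_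
    exact fun hh => (IsLocalRing.mem_maximalIdeal _).1
      (Ideal.mul_mem_right _ _ (show ψ s ∈ IsLocalRing.maximalIdeal V from hs)) hh

theorem exists_finite_of_mem_closure {W W' : X.Opens} [Nonempty W] [Nonempty W'] {r : X.functionField}
    (hr : r ∈ B W ⊔ B W') :
    ∃ F : Set X.functionField, F.Finite ∧ F ⊆ B W ∧ ∀ y ∈ W', F ⊆ L y → r ∈ L y := by
  rw [← Subring.closure_eq (B W), ← Subring.closure_eq (B W'), ← Subring.closure_union] at hr
  induction hr using Subring.closure_induction with
  | mem r hr =>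
    rcases hr with hr | hr
    · exact ⟨{r}, Set.finite_singleton r, Set.singleton_subset_iff.2 hr, fun y _ h => h rfl⟩
    · exact ⟨∅, Set.finite_empty, Set.empty_subset _, fun y hy _ => B_le_L hy hr⟩
  | zero => exact ⟨∅, Set.finite_empty, Set.empty_subset _, fun y _ _ => zero_mem _⟩
  | one => exact ⟨∅, Set.finite_empty, Set.empty_subset _, fun y _ _ => one_mem _⟩
  | add a b _ _ ha hb =>
    obtain ⟨F, hF, hFB, hFy⟩ := ha
    obtain ⟨G, hG, hGB, hGy⟩ := hb
    exact ⟨F ∪ G, hF.union hG, Set.union_subset hFB hGB, fun y hy h =>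
      add_mem (hFy y hy (Set.subset_union_left.trans h)) (hGy y hy (Set.subset_union_right.trans h))⟩
  | neg a _ ha =>
    obtain ⟨F, hF, hFB, hFy⟩ := ha
    exact ⟨F, hF, hFB, fun y hy h => neg_mem (hFy y hy h)⟩
  | mul a b _ _ ha hb =>
    obtain ⟨F, hF, hFB, hFy⟩ := ha
    obtain ⟨G, hG, hGB, hGy⟩ := hb
    exact ⟨F ∪ G, hF.union hG, Set.union_subset hFB hGB, fun y hy h =>
      mul_mem (hFy y hy (Set.subset_union_left.trans h)) (hGy y hy (Set.subset_union_right.trans h))⟩

/-- Finitely many functions on `W` detect, among the points of `W'`, those lying in `W`. -/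
theorem exists_finite_detect [X.IsSeparated] {W W' : X.Opens} [Nonempty W] [Nonempty W']
    (hW : IsAffineOpen W) (hW' : IsAffineOpen W') :
    ∃ F : Set X.functionField, F.Finite ∧ F ⊆ B W ∧ ∀ y ∈ W', F ⊆ L y → y ∈ W := by
  let R : Subring X.functionField := B W ⊔ B W'
  let S₀ : Set R := {r | ∃ f : Γ(X, W'), (∀ y (hy : y ∈ W'), y ∉ W →
    X.presheaf.germ W' y hy f ∈ IsLocalRing.maximalIdeal _) ∧ X.germToFunctionField W' f = r}
  have hJ : Ideal.span S₀ = ⊤ := by
    by_contra hJ
    obtain ⟨V, hV, hJV⟩ := Ideal.image_subset_nonunits_valuationSubring _ hJ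
    obtain ⟨x, hx, hxc⟩ := exists_center hW (le_sup_left.trans hV)
    obtain ⟨x', hx', hxc'⟩ := exists_center hW' (le_sup_right.trans hV)
    obtain rfl := isCenter_unique hxc hxc'
    obtain ⟨f, hf, hxf⟩ := hW'.exists_basicOpen_le (V := W) ⟨x, hx⟩ hx'
    have hmem : (⟨X.germToFunctionField W' f,
        (le_sup_right : B W' ≤ R) ⟨f, rfl⟩⟩ : R) ∈ S₀ :=
      ⟨f, fun y hy hyW => (IsLocalRing.mem_maximalIdeal _).2 fun hu =>
        hyW (hf ((Scheme.mem_basicOpen X f y hy).2 hu)), rfl⟩
    have h1 := hJV ⟨_, Ideal.subset_span hmem, rfl⟩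
    obtain ⟨v, hv⟩ := (Scheme.mem_basicOpen X f x hx').1 hxf
    have h2 : algebraMap _ X.functionField (↑v : X.presheaf.stalk x) ∈ V.nonunits := by
      rw [hv, X.algebraMap_germ_eq_germToFunctionField]; exact h1
    have h3 : IsUnit (⟨_, hxc.mem v⟩ : V) := ⟨⟨⟨_, hxc.mem v⟩, ⟨_, hxc.mem ↑v⁻¹⟩,
      Subtype.ext (by show _ * _ = (1 : X.functionField); rw [← map_mul, v.mul_inv, map_one]),
      Subtype.ext (by show _ * _ = (1 : X.functionField); rw [← map_mul, v.inv_mul, map_one])⟩, rfl⟩
    exact (ValuationSubring.coe_mem_nonunits_iff (a := (⟨_, hxc.mem v⟩ : V))).1 h2 h3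
  have key : ∀ r ∈ Ideal.span S₀, ∃ F : Set X.functionField, F.Finite ∧ F ⊆ B W ∧
      ∀ y ∈ W', y ∉ W → F ⊆ L y → ∃ a ∈ IsLocalRing.maximalIdeal (X.presheaf.stalk y),
        algebraMap _ X.functionField a = (r : X.functionField) := by
    intro r hr
    induction hr using Submodule.span_induction with
    | mem r hr =>
      obtain ⟨f, hf, he⟩ := hr
      exact ⟨∅, Set.finite_empty, Set.empty_subset _, fun y hy hyW _ =>
        ⟨_, hf y hy hyW, (X.algebraMap_germ_eq_germToFunctionField hy f).trans he⟩⟩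
    | zero => exact ⟨∅, Set.finite_empty, Set.empty_subset _, fun y _ _ _ =>
        ⟨0, zero_mem _, map_zero _⟩⟩
    | add a b _ _ ha hb =>
      obtain ⟨F, hF, hFB, hFy⟩ := ha
      obtain ⟨G, hG, hGB, hGy⟩ := hb
      refine ⟨F ∪ G, hF.union hG, Set.union_subset hFB hGB, fun y hy hyW h => ?_⟩
      obtain ⟨a', ha', ea⟩ := hFy y hy hyW (Set.subset_union_left.trans h)
      obtain ⟨b', hb', eb⟩ := hGy y hy hyW (Set.subset_union_right.trans h)
      exact ⟨a' + b', add_mem ha' hb', by rw [map_add, ea, eb]; rfl⟩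
    | smul c a _ ha =>
      obtain ⟨F, hF, hFB, hFy⟩ := ha
      obtain ⟨G, hG, hGB, hGy⟩ := exists_finite_of_mem_closure c.2
      refine ⟨F ∪ G, hF.union hG, Set.union_subset hFB hGB, fun y hy hyW h => ?_⟩
      obtain ⟨a', ha', ea⟩ := hFy y hy hyW (Set.subset_union_left.trans h)
      obtain ⟨c', ec⟩ := hGy y hy (Set.subset_union_right.trans h)
      exact ⟨c' * a', Ideal.mul_mem_left _ _ ha', by rw [map_mul, ea, ec]; rfl⟩
  obtain ⟨F, hF, hFB, hFy⟩ := key 1 (hJ ▸ trivial)
  refine ⟨F, hF, hFB, fun y hy h => ?_⟩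
  by_contra hyW
  obtain ⟨a, ha, ea⟩ := hFy y hy hyW h
  rw [show a = 1 from IsFractionRing.injective (X.presheaf.stalk y) X.functionField
    (ea.trans (map_one _).symm)] at ha
  exact (IsLocalRing.mem_maximalIdeal _).1 ha isUnit_one

instance (x : X) : IsFractionRing (L x) X.functionField := by
  refine IsFractionRing.of_field _ _ fun z => ?_
  obtain ⟨a, b, -, hab⟩ := IsFractionRing.div_surjective (A := X.presheaf.stalk x) z
  exact ⟨⟨_, a, rfl⟩, ⟨_, b, rfl⟩, hab.symm⟩

/-- The local ring at a point is its image in the function field. -/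
def equivL (x : X) : X.presheaf.stalk x ≃+* L x :=
  RingEquiv.ofBijective (algebraMap (X.presheaf.stalk x) X.functionField).rangeRestrict
    ⟨fun _ _ h => IsFractionRing.injective (X.presheaf.stalk x) X.functionField
      (congrArg Subtype.val h), RingHom.rangeRestrict_surjective _⟩

theorem sup_eq_top [X.IsSeparated] {x x' : X} (hne : x ≠ x')
    (hd : ringKrullDim (X.presheaf.stalk x) ≤ 1) (hd' : ringKrullDim (X.presheaf.stalk x') ≤ 1) :
    L x ⊔ L x' = ⊤ := by
  by_contra hne'
  set R := L x ⊔ L x'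
  obtain ⟨r, hr, hr0⟩ : ∃ r : R, ¬ IsUnit r ∧ (r : X.functionField) ≠ 0 := by
    by_contra hcon
    simp only [not_exists, not_and, not_not] at hcon
    refine hne' (top_le_iff.1 fun z _ => ?_)
    obtain ⟨a, b, hb, hab⟩ := IsFractionRing.div_surjective (A := L x) z
    by_cases hb0 : (b : X.functionField) = 0
    · exact absurd (Subtype.ext hb0) (nonZeroDivisors.ne_zero hb)
    obtain ⟨v, hv⟩ : IsUnit (⟨b, (le_sup_left : L x ≤ R) b.2⟩ : R) := by
      by_contra hn
      exact hb0 (hcon _ hn)
    have hv' : ((↑v⁻¹ : R) : X.functionField) = (b : X.functionField)⁻¹ := by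
      refine eq_inv_of_mul_eq_one_left ?_
      have := congrArg Subtype.val v.inv_mul
      rw [hv] at this
      exact this
    rw [← hab, div_eq_mul_inv]
    show (a : X.functionField) * (b : X.functionField)⁻¹ ∈ R
    exact mul_mem ((le_sup_left : L x ≤ R) a.2) (hv' ▸ (↑v⁻¹ : R).2)
  obtain ⟨V, hV, hrV⟩ := Ideal.image_subset_nonunits_valuationSubring (Ideal.span {r})
    (by rwa [Ne, Ideal.span_singleton_eq_top])
  have hr' : (r : X.functionField) ∈ V.nonunits := hrV ⟨r, Ideal.mem_span_singleton_self r, rfl⟩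
  have key : ∀ {z : X}, L z ≤ V.toSubring → ringKrullDim (X.presheaf.stalk z) ≤ 1 → IsCenter V z := by
    intro z hz hzd
    refine ⟨fun a => hz ⟨a, rfl⟩, fun a ha => ?_⟩
    let φ : X.presheaf.stalk z →+* V :=
      (algebraMap (X.presheaf.stalk z) X.functionField).codRestrict V.toSubring fun a => hz ⟨a, rfl⟩
    have hq0 : (IsLocalRing.maximalIdeal V).comap φ ≠ ⊥ := by
      intro hq
      have hunit : ∀ b : X.presheaf.stalk z, b ≠ 0 → IsUnit (φ b) := fun b hb => by
        by_contra hn
        exact hb ((Submodule.mem_bot _).1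
          (hq.le (Ideal.mem_comap.2 ((IsLocalRing.mem_maximalIdeal (φ b)).2 hn))))
      obtain ⟨a, b, hb, hab⟩ := IsFractionRing.div_surjective (A := X.presheaf.stalk z) (r : X.functionField)
      by_cases ha0 : a = 0
      · subst ha0
        exact hr0 (by rw [← hab, map_zero, zero_div])
      obtain ⟨va, hva⟩ := hunit a ha0
      obtain ⟨vb, hvb⟩ := hunit b (nonZeroDivisors.ne_zero hb)
      refine (ValuationSubring.coe_mem_nonunits_iff (a := (↑(va * vb⁻¹) : V))).1 ?_ ⟨_, rfl⟩
      rw [Units.val_mul, hva, MulMemClass.coe_mul,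
        show ((↑vb⁻¹ : V) : X.functionField) = (algebraMap _ X.functionField b)⁻¹ from by
          refine eq_inv_of_mul_eq_one_left ?_
          have := congrArg Subtype.val vb.inv_mul
          rw [hvb] at this
          exact this, ← div_eq_mul_inv]
      exact hab ▸ hr'
    have : Ring.KrullDimLE 1 (X.presheaf.stalk z) := Ring.krullDimLE_iff.2 hzd
    have hmax : ((IsLocalRing.maximalIdeal V).comap φ).IsMaximal :=
      Ideal.IsPrime.isMaximal_of_ne_bot inferInstance hq0
    rw [← IsLocalRing.eq_maximalIdeal hmax] at ha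
    exact (ValuationSubring.coe_mem_nonunits_iff (a := φ a)).2
      ((IsLocalRing.mem_maximalIdeal _).1 (Ideal.mem_comap.1 ha))
  exact hne (isCenter_unique (key ((le_sup_left : L x ≤ R).trans hV) hd)
    (key ((le_sup_right : L x' ≤ R).trans hV) hd'))

end Groth.CodimOneAffine
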