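import Mathlib

/-!
# Images of zero loci under finite maps are generically principal
-/

set_option autoImplicit false
set_option backward.isDefEq.respectTransparency false
set_option backward.isDefEq.respectTransparency.types false

universe u

open TensorProduct

noncomputable section

namespace Groth.CodimOneAffine

section Free

variable {A B : Type u} [CommRing A] [CommRing B] [Algebra A B] [Module.Finite A B] [Module.Free A B]

theorem exists_over_iff_norm_mem (b : B) (q : Ideal A) [q.IsPrime] :
    (∃ P : Ideal B, P.IsPrime ∧ P.comap (algebraMap A B) = q ∧ b ∈ P) ↔ Algebra.norm A b ∈ q := by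
  constructor
  · rintro ⟨P, hP, rfl, hb⟩
    have h0 : Polynomial.aeval (Algebra.lmul A B b) (LinearMap.charpoly (Algebra.lmul A B b)) = 0 :=
      LinearMap.aeval_self_charpoly _
    rw [Polynomial.aeval_algHom_apply] at h0
    have h1 : Polynomial.aeval b (LinearMap.charpoly (Algebra.lmul A B b)) = 0 := by
      have := LinearMap.congr_fun h0 1
      simpa using this
    rw [← Polynomial.X_mul_divX_add (LinearMap.charpoly (Algebra.lmul A B b)), map_add, map_mul,
      Polynomial.aeval_X, Polynomial.aeval_C] at h1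
    have h2 : algebraMap A B ((LinearMap.charpoly (Algebra.lmul A B b)).coeff 0) ∈ P := by
      rw [eq_neg_of_add_eq_zero_right h1]
      exact neg_mem (Ideal.mul_mem_right _ _ hb)
    rw [Ideal.mem_comap, Algebra.norm_apply, LinearMap.det_eq_sign_charpoly_coeff, map_mul]
    exact Ideal.mul_mem_left _ _ h2
  · intro h
    have hle : (Ideal.span {b}).comap (algebraMap A B) ≤ q := by
      intro s hs
      obtain ⟨y, hy⟩ := Ideal.mem_span_singleton'.1 hs
      have := congrArg (Algebra.norm A) hy
      rw [map_mul, Algebra.norm_algebraMap_of_basis (Module.Free.chooseBasis A B)] at this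
      exact (inferInstance : q.IsPrime).mem_of_pow_mem _ (this ▸ Ideal.mul_mem_left _ _ h)
    have : Algebra.IsIntegral A B := Algebra.IsIntegral.of_finite A B
    obtain ⟨P, hPb, hP, hPq⟩ := Ideal.exists_ideal_over_prime_of_isIntegral q (Ideal.span {b}) hle
    exact ⟨P, hP, hPq, hPb (Ideal.mem_span_singleton_self b)⟩

end Free

variable (A B : Type u) [CommRing A] [CommRing B] [Algebra A B] [Module.Finite A B]

/-- Over the basic open of `d`, images of zero loci are cut out by one equation. -/
def PrincipalImages (d : A) : Prop :=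
  ∀ b : B, ∃ c : A, ∀ q : Ideal A, q.IsPrime → d ∉ q →
    ((∃ P : Ideal B, P.IsPrime ∧ P.comap (algebraMap A B) = q ∧ b ∈ P) ↔ c ∈ q)

variable {A B}

theorem principalImages_of_free (d : A)
    (h : Module.Free (Localization.Away (Ideal.Quotient.mk (nilradical A) d))
      (Localization.Away (Ideal.Quotient.mk (nilradical A) d) ⊗[A] B)) :
    PrincipalImages A B d := by
  intro b
  set A' := Localization.Away (Ideal.Quotient.mk (nilradical A) d)
  have := h
  obtain ⟨⟨a, ⟨_, k, rfl⟩⟩, hs⟩ := IsLocalization.surj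
    (Submonoid.powers (Ideal.Quotient.mk (nilradical A) d))
    (Algebra.norm A' ((1 : A') ⊗ₜ[A] b))
  obtain ⟨a, rfl⟩ := Ideal.Quotient.mk_surjective a
  refine ⟨a, fun q hq hd => ?_⟩
  let κ := FractionRing (A ⧸ q)
  let φ : A ⧸ nilradical A →+* κ :=
    (algebraMap (A ⧸ q) κ).comp (Ideal.Quotient.factor (nilradical_le_prime q))
  have hu : IsUnit (φ (Ideal.Quotient.mk _ d)) :=
    IsUnit.mk0 _ fun h0 => hd (Ideal.Quotient.eq_zero_iff_mem.1
      (IsFractionRing.injective (A ⧸ q) κ (h0.trans (map_zero _).symm)))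
  let ψ : A' →+* κ := IsLocalization.Away.lift (Ideal.Quotient.mk (nilradical A) d) hu
  have hψ : ∀ x : A, ψ (algebraMap A A' x) = algebraMap (A ⧸ q) κ (Ideal.Quotient.mk q x) := fun x => by
    rw [IsScalarTower.algebraMap_apply A (A ⧸ nilradical A) A']
    exact IsLocalization.Away.lift_eq _ hu _
  let q' : Ideal A' := RingHom.ker ψ
  have hq' : q'.IsPrime := RingHom.ker_isPrime ψ
  have hq'q : q'.comap (algebraMap A A') = q := by
    ext x
    rw [Ideal.mem_comap, RingHom.mem_ker, hψ, ← map_zero (algebraMap (A ⧸ q) κ),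
      (IsFractionRing.injective (A ⧸ q) κ).eq_iff, Ideal.Quotient.eq_zero_iff_mem]
  have hnorm : Algebra.norm A' ((1 : A') ⊗ₜ[A] b) ∈ q' ↔ a ∈ q := by
    rw [← hq'q, Ideal.mem_comap, IsScalarTower.algebraMap_apply A (A ⧸ nilradical A) A',
      Ideal.Quotient.algebraMap_eq, ← hs]
    exact ⟨fun h => Ideal.mul_mem_right _ _ h, fun h => (hq'.mem_or_mem h).resolve_right fun h' => by
      change algebraMap _ A' (Ideal.Quotient.mk (nilradical A) d ^ k) ∈ q' at h'
      have e : algebraMap A A' (d ^ k) =
          algebraMap (A ⧸ nilradical A) A' (Ideal.Quotient.mk (nilradical A) d ^ k) := by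
        rw [IsScalarTower.algebraMap_apply A (A ⧸ nilradical A) A', map_pow, Ideal.Quotient.algebraMap_eq]
      have h1 : d ^ k ∈ q := hq'q ▸ Ideal.mem_comap.2 (e ▸ h')
      exact hd (hq.mem_of_pow_mem k h1)⟩
  rw [← hnorm, ← exists_over_iff_norm_mem]
  constructor
  · rintro ⟨P, hP, hPq, hbP⟩
    -- a prime of the base change over the pair
    let L := FractionRing (B ⧸ P)
    have hle : q ≤ P.comap (algebraMap A B) := hPq.ge
    let χ : A ⧸ nilradical A →+* L := ((algebraMap (B ⧸ P) L).comp (Ideal.quotientMap P (algebraMap A B) hle)).comp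
      (Ideal.Quotient.factor (nilradical_le_prime q))
    have hu' : IsUnit (χ (Ideal.Quotient.mk _ d)) := IsUnit.mk0 _ fun h0 => by
      have h1 := IsFractionRing.injective (B ⧸ P) L (h0.trans (map_zero _).symm)
      rw [Ideal.Quotient.factor_mk, Ideal.quotientMap_mk, Ideal.Quotient.eq_zero_iff_mem] at h1
      exact hd (hPq ▸ Ideal.mem_comap.2 h1)
    let χ' : A' →+* L := IsLocalization.Away.lift (Ideal.Quotient.mk (nilradical A) d) hu'
    have hχ : ∀ x : A, χ' (algebraMap A A' x) = algebraMap (B ⧸ P) L (Ideal.Quotient.mk P (algebraMap A B x)) := fun x => by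
      rw [IsScalarTower.algebraMap_apply A (A ⧸ nilradical A) A']
      exact (IsLocalization.Away.lift_eq _ hu' _).trans rfl
    have hL : ∀ x : A, algebraMap A L x = algebraMap (B ⧸ P) L (Ideal.Quotient.mk P (algebraMap A B x)) :=
      fun x => IsScalarTower.algebraMap_apply A (B ⧸ P) L x
    let f₁ : A' →ₐ[A] L := { χ' with commutes' := fun x => (hχ x).trans (hL x).symm }
    let f₂ : B →ₐ[A] L :=
      { (algebraMap (B ⧸ P) L).comp (Ideal.Quotient.mk P) with commutes' := fun x => (hL x).symm }
    let f : A' ⊗[A] B →ₐ[A] L := Algebra.TensorProduct.lift f₁ f₂ fun _ _ => Commute.all _ _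
    refine ⟨RingHom.ker f.toRingHom, RingHom.ker_isPrime _, ?_, ?_⟩
    · ext x
      rw [Ideal.mem_comap, RingHom.mem_ker, Algebra.TensorProduct.algebraMap_apply]
      show (Algebra.TensorProduct.lift f₁ f₂ fun _ _ => Commute.all _ _)
        (algebraMap A' A' x ⊗ₜ[A] (1 : B)) = 0 ↔ x ∈ RingHom.ker ψ
      rw [Algebra.TensorProduct.lift_tmul, map_one, mul_one, RingHom.mem_ker]
      obtain ⟨⟨y, s⟩, hy⟩ := IsLocalization.surj (Submonoid.powers (Ideal.Quotient.mk (nilradical A) d)) x
      obtain ⟨y, rfl⟩ := Ideal.Quotient.mk_surjective y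
      have hsu := IsLocalization.map_units A' s
      have e1 : χ' x = 0 ↔ χ' (algebraMap A A' y) = 0 := by
        rw [IsScalarTower.algebraMap_apply A (A ⧸ nilradical A) A', Ideal.Quotient.algebraMap_eq, ← hy,
          map_mul, mul_eq_zero, or_iff_left (hsu.map χ').ne_zero]
      have e2 : ψ x = 0 ↔ ψ (algebraMap A A' y) = 0 := by
        rw [IsScalarTower.algebraMap_apply A (A ⧸ nilradical A) A', Ideal.Quotient.algebraMap_eq, ← hy,
          map_mul, mul_eq_zero, or_iff_left (hsu.map ψ).ne_zero]
      show χ' x = 0 ↔ ψ x = 0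
      rw [e1, e2, hχ, hψ, ← map_zero (algebraMap (B ⧸ P) L), (IsFractionRing.injective (B ⧸ P) L).eq_iff,
        Ideal.Quotient.eq_zero_iff_mem, ← Ideal.mem_comap, hPq,
        ← map_zero (algebraMap (A ⧸ q) κ), (IsFractionRing.injective (A ⧸ q) κ).eq_iff,
        Ideal.Quotient.eq_zero_iff_mem]
    · rw [RingHom.mem_ker]
      show (Algebra.TensorProduct.lift f₁ f₂ fun _ _ => Commute.all _ _) ((1 : A') ⊗ₜ[A] b) = 0
      rw [Algebra.TensorProduct.lift_tmul, map_one, one_mul]
      show algebraMap (B ⧸ P) L (Ideal.Quotient.mk P b) = 0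
      rw [Ideal.Quotient.eq_zero_iff_mem.2 hbP, map_zero]
  · rintro ⟨P', hP', hP'q, hbP'⟩
    refine ⟨P'.comap (Algebra.TensorProduct.includeRight : B →ₐ[A] A' ⊗[A] B).toRingHom,
      Ideal.IsPrime.comap _, ?_, hbP'⟩
    rw [← hq'q, ← hP'q, Ideal.comap_comap, Ideal.comap_comap]
    congr 1
    ext x
    show (1 : A') ⊗ₜ[A] algebraMap A B x = algebraMap A' A' (algebraMap A A' x) ⊗ₜ[A] (1 : B)
    rw [Algebra.algebraMap_eq_smul_one, Algebra.algebraMap_eq_smul_one, TensorProduct.tmul_smul,
      TensorProduct.smul_tmul']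
    simp [Algebra.smul_def]

/-- Generic freeness near a minimal prime of a reduced Noetherian ring. -/
theorem exists_free_away {R : Type u} [CommRing R] [IsNoetherianRing R] [IsReduced R] (M : Type u)
    [AddCommGroup M] [Module R M] [Module.Finite R M] {q : Ideal R} [q.IsPrime] (hq : q ∈ minimalPrimes R) :
    ∃ r ∉ q, Module.Free (Localization.Away r) (Localization.Away r ⊗[R] M) := by
  let K := Localization.AtPrime q
  have h0 : Ring.KrullDimLE 0 K := by
    rw [Ring.krullDimLE_iff, IsLocalization.AtPrime.ringKrullDim_eq_height q K,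
      Ideal.height_eq_zero_iff.2 hq]
    rfl
  have : IsReduced K := isReduced_localizationPreserves q.primeCompl K ‹_›
  have : IsArtinianRing K := IsNoetherianRing.isArtinianRing_of_krullDimLE_zero
  let _ : Field K := IsField.toField (IsArtinianRing.isField_of_isReduced_of_isLocalRing K)
  have : Module.FinitePresentation R M := Module.finitePresentation_of_finite R M
  obtain ⟨r, hr, hfree, -⟩ := Module.FinitePresentation.exists_free_localizedModule_powers
    q.primeCompl (LocalizedModule.mkLinearMap q.primeCompl M) K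
  refine ⟨r, hr, ?_⟩
  exact Module.Free.of_equiv (IsLocalizedModule.isBaseChange (Submonoid.powers r) (Localization.Away r)
    (LocalizedModule.mkLinearMap (Submonoid.powers r) M)).equiv.symm

/-- Generic freeness gives principal images near each minimal prime. -/
theorem exists_principalImages [IsNoetherianRing A] (q : Ideal A) (hq : q ∈ minimalPrimes A) :
    ∃ d ∉ q, PrincipalImages A B d := by
  have : q.IsPrime := hq.1.1
  let R := A ⧸ nilradical A
  let qR : Ideal R := q.map (Ideal.Quotient.mk _)
  have hle : nilradical A ≤ q := nilradical_le_prime q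
  have hqR : qR.IsPrime := Ideal.map_isPrime_of_surjective Ideal.Quotient.mk_surjective
    (by rwa [Ideal.mk_ker])
  have hcomap : qR.comap (Ideal.Quotient.mk _) = q := by
    rw [Ideal.comap_map_of_surjective _ Ideal.Quotient.mk_surjective, ← RingHom.ker_eq_comap_bot,
      Ideal.mk_ker, sup_eq_left.2 hle]
  have hmin : qR ∈ minimalPrimes R := by
    refine ⟨⟨hqR, bot_le⟩, fun J hJ hJle => ?_⟩
    have : J.IsPrime := hJ.1
    have h1 : q ≤ J.comap (Ideal.Quotient.mk _) := hq.2 ⟨Ideal.IsPrime.comap _, bot_le⟩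
      ((Ideal.comap_mono hJle).trans hcomap.le)
    exact (Ideal.map_mono h1).trans Ideal.map_comap_le
  have hred : IsReduced R := (Ideal.isRadical_iff_quotient_reduced _).1 (Ideal.radical_isRadical _)
  obtain ⟨r, hr, hfree⟩ := exists_free_away (R := R) (R ⊗[A] B) hmin
  obtain ⟨d, rfl⟩ := Ideal.Quotient.mk_surjective r
  refine ⟨d, fun h => hr (Ideal.mem_map_of_mem _ h), principalImages_of_free d ?_⟩
  let A' := Localization.Away (Ideal.Quotient.mk (nilradical A) d)
  exact Module.Free.of_equiv (TensorProduct.AlgebraTensorModule.cancelBaseChange A R A' A' B)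

end Groth.CodimOneAffine
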