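import Groth.Agent.CodimOneAffine.Absolute
import Groth.Agent.AlgSpFppf.QuotSpace
import Groth.Agent.AlgSp2.FppfProps
import Groth.Agent.FibreDim.Composition
import Groth.Agent.S10102

/-!
# Quotients by flat finite type closed equivalence relations in codimension one

The quotient is a separated, locally Noetherian algebraic space and the quotient map does not raise
dimensions of local rings, so the codimension one result for separated spaces applies.
-/

set_option autoImplicit false
set_option backward.isDefEq.respectTransparency false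
set_option backward.isDefEq.respectTransparency.types false

universe u

open CategoryTheory CategoryTheory.Limits AlgebraicGeometry Opposite TopologicalSpace AlgSp
open Groth.AlgSpBasic

noncomputable section

namespace Groth.CodimOneAffine

variable {S : Scheme.{u}}

theorem ringKrullDim_stalk_le_of_flat {W V : Scheme.{u}} (g : W ⟶ V) [Flat g]
    [IsLocallyNoetherian W] [IsLocallyNoetherian V] (w : W) :
    ringKrullDim (V.presheaf.stalk (g w)) ≤ ringKrullDim (W.presheaf.stalk w) := by
  rw [Groth.FibreDim.ringKrullDim_stalk_eq_add_of_generalizing g w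
    (Groth.FibreDim.generalizing_of_flat_stalkMap g w (Flat.stalkMap g w))]
  exact le_add_of_nonneg_right ringKrullDim_nonneg_of_nontrivial

/-- The quotient map of an fppf equivalence relation of schemes is representable by schemes. -/
theorem repWith_quotSpπ {Z Y : Over S} {s t : Z ⟶ Y} (hrel : IsEqvRel s t) [Flat s.left]
    [LocallyOfFinitePresentation s.left] :
    RepWith (@Flat ⊓ @LocallyOfFinitePresentation) (quotSpπ ((yon S).map s) ((yon S).map t)) ∧
      RepWith @Surjective (quotSpπ ((yon S).map s) ((yon S).map t)) := by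
  have hj := Groth.AlgSpFppf.isEqvRelSp_yon hrel
  have := Groth.AlgSpFppf.isLocallySurjective_quotSpπ ((yon S).map s) ((yon S).map t)
  have h := Groth.AlgSpFppf.repBySpWith_quotient (IsAlgSpace.yon_obj Z) (IsAlgSpace.yon_obj Y) hj
    (locP_of_repWith ((repWith_yon_map_iff @Flat s).2 inferInstance))
    (locP_of_repWith ((repWith_yon_map_iff @LocallyOfFinitePresentation s).2 inferInstance))
    (Groth.AlgSpFppf.isPullback_quotSp hj)
  have hr := Groth.FppfBoot.repWith_of_repBySpWith (quotSpπ ((yon S).map s) ((yon S).map t))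
    (fun U ξ F' fst snd sq => by
      obtain ⟨h', hA, ⟨-, hfl⟩, hfp⟩ := h ξ fst snd sq
      exact ⟨h', hA, hfl, hfp⟩)
  exact ⟨hr, repWith_surjective_of_points hr.rep
    (Groth.AlgSpFppf.isSurjectiveMor_of_repBySpWith (fun _ _ f hf => hf.1.1) h)⟩

theorem isSeparatedSp_quotSp {Z Y : Over S} {s t : Z ⟶ Y} (hrel : IsEqvRel s t)
    (hsep : IsClosedImmersion (prod.lift t s).left) :
    IsSeparatedSp (quotSp ((yon S).map s) ((yon S).map t)) := by
  have hj := Groth.AlgSpFppf.isEqvRelSp_yon hrel
  have := Groth.AlgSpFppf.isLocallySurjective_quotSpπ ((yon S).map s) ((yon S).map t)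
  have := isLocallySurjective_prod_map (π := quotSpπ ((yon S).map s) ((yon S).map t))
  exact repWith_of_sepLQF (Q := @IsClosedImmersion) _
    (isPullback_diag_yon (Groth.AlgSpFppf.isPullback_quotSp hj)) hsep

theorem isSchematicPt_quotSp [IsLocallyNoetherian S] {Z Y : Over S} {s t : Z ⟶ Y}
    (hrel : IsEqvRel s t) [LocallyOfFiniteType Y.hom] [Flat s.left] [Flat t.left]
    [LocallyOfFiniteType s.left] [LocallyOfFiniteType t.left]
    (hsep : IsClosedImmersion (prod.lift t s).left)
    (y : ↥Y.left) (hy : ringKrullDim ↥(Y.left.presheaf.stalk y) ≤ 1) :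
    IsSchematicPt (quotSp ((yon S).map s) ((yon S).map t))
      (Points.ofPt (quotSpπ ((yon S).map s) ((yon S).map t)) y) := by
  have : IsLocallyNoetherian Y.left := LocallyOfFiniteType.isLocallyNoetherian Y.hom
  have : LocallyOfFinitePresentation s.left := inferInstance
  have : LocallyOfFinitePresentation t.left := inferInstance
  have hj := Groth.AlgSpFppf.isEqvRelSp_yon hrel
  have hX : IsAlgSpace (quotSp ((yon S).map s) ((yon S).map t)) :=
    Groth.Agent.S10102.result S _ _ (IsAlgSpace.yon_obj Z) (IsAlgSpace.yon_obj Y) _ _ hj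
      ⟨locP_of_repWith ((repWith_yon_map_iff @Flat s).2 inferInstance),
        locP_of_repWith ((repWith_yon_map_iff @LocallyOfFinitePresentation s).2 inferInstance)⟩
      ⟨locP_of_repWith ((repWith_yon_map_iff @Flat t).2 inferInstance),
        locP_of_repWith ((repWith_yon_map_iff @LocallyOfFinitePresentation t).2 inferInstance)⟩
  obtain ⟨hπ, hπs⟩ := repWith_quotSpπ hrel
  set π := quotSpπ ((yon S).map s) ((yon S).map t)
  let X : Space S := ⟨_, hX⟩
  have hY : IsLocNoethSp ((yon S).obj Y) := ⟨Y, 𝟙 _, repWith_isIso _, repWith_isIso _, inferInstance⟩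
  have hN : IsLocNoethSp X.obj := Groth.AlgSp2.isLocNoethSp_of_fppf_surjective (IsAlgSpace.yon_obj Y)
    hX (locP_of_repWith (repWith_mono inf_le_right hπ)) (locP_of_repWith (repWith_mono inf_le_left hπ))
    (surjective_map_of_repWith hπs) hY
  obtain ⟨V, b, hb, hbs⟩ := hX.atlas
  obtain ⟨W, w, fst, sq⟩ := hπ.rep b
  obtain ⟨c, rfl⟩ := (yon S).map_surjective fst
  obtain ⟨hwf, hwp⟩ := hπ.property b _ w sq
  have : Flat w.left := hwf
  have : Etale c.left := (repWith_yon_map_iff @Etale c).1 (repWith_of_isPullback sq.flip hb)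
  have : Surjective c.left := (repWith_yon_map_iff @Surjective c).1 (repWith_of_isPullback sq.flip hbs)
  have : IsLocallyNoetherian V.left := Groth.AlgSp2.isLocallyNoetherian_of_etale hX hN hb
  have : IsLocallyNoetherian W.left := LocallyOfFiniteType.isLocallyNoetherian c.left
  obtain ⟨w₀, rfl⟩ := c.left.surjective y
  refine isSchematicPt_of_codim_le_one' (X := X) (isSeparatedSp_quotSp hrel hsep) hN
    ⟨V, b, w.left w₀, hb, ?_, ?_⟩
  · rw [← ofPt_comp_yon, ← sq.w, ofPt_comp_yon]
  · exact (ringKrullDim_stalk_le_of_flat w.left w₀).trans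
      ((etaleInvariant_ringKrullDim c.left w₀).le.trans hy)

end Groth.CodimOneAffine
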