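import Groth.Agent.CodimOneAffine.SpaceNhd
import Groth.Agent.AlgSpBasic.DenseScheme
import Groth.Agent.AlgSpCartier.ClosedSubProps
import Groth.Agent.AlgSpBasic.DimZeroSpace

/-!
# Codimension one points of separated spaces lie in the schematic locus
-/

set_option autoImplicit false
set_option backward.isDefEq.respectTransparency false
set_option backward.isDefEq.respectTransparency.types false

universe u

open CategoryTheory CategoryTheory.Limits AlgebraicGeometry Opposite TopologicalSpace AlgSp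
open Groth.AlgSpBasic

noncomputable section

namespace Groth.CodimOneAffine

variable {S : Scheme.{u}} [S.IsSeparated] {X : Space S}

theorem isSchematicPt_of_codim_le_one (hsep : IsSeparatedSp X.obj) (hN : IsLocNoethSp X.obj)
    {x : Points X.obj} (hx : HasAt (fun U u => ringKrullDim ↥(U.presheaf.stalk u) ≤ 1) X.obj x) :
    IsSchematicPt X.obj x := by
  obtain ⟨U₁, a₁, u₁, ha₁, hu₁, hd₁⟩ := hx
  obtain ⟨DA, hDA, huDA, -⟩ := exists_isAffineOpen_mem_and_subset (X := U₁.left) (x := u₁) (U := ⊤) trivial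
  let U : Over S := Over.mk (DA.ι ≫ U₁.hom)
  let jU : U ⟶ U₁ := Over.homMk DA.ι rfl
  have : Etale jU.left := inferInstanceAs (Etale DA.ι)
  let p : (yon S).obj U ⟶ X.obj := (yon S).map jU ≫ a₁
  have hp : RepWith @Etale p := repWith_comp ((repWith_yon_map_iff _ jU).2 ‹_›) ha₁
  have : IsAffine U.left := hDA
  let u : ↥U.left := ⟨u₁, huDA⟩
  have hu : Points.ofPt p u = x := by
    show Points.ofPt ((yon S).map jU ≫ a₁) u = x
    rw [ofPt_comp_yon]; exact hu₁
  have hd : ringKrullDim (U.left.presheaf.stalk u) ≤ 1 :=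
    (inv_eq_of_ofPt_eq etaleInvariant_ringKrullDim X.property hp ha₁ (hu.trans hu₁.symm)).le.trans hd₁
  have : IsLocallyNoetherian U.left := Groth.AlgSp2.isLocallyNoetherian_of_etale X.property hN hp
  have hqs := isQuasiSeparatedSp_of_sep hsep
  have hge : 0 ≤ ringKrullDim (U.left.presheaf.stalk u) := ringKrullDim_nonneg_of_nontrivial
  by_cases h0 : ringKrullDim (U.left.presheaf.stalk u) = 0
  · exact isSchematicPt_of_qs X.property hqs ⟨U, p, u, hp, hu, h0⟩
  have h1 : ringKrullDim (U.left.presheaf.stalk u) = 1 := by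
    rw [ringKrullDim_stalk_eq_coheight] at hd h0 ⊢
    have h2 : Order.coheight u ≤ 1 := by exact_mod_cast hd
    rcases ENat.le_one_iff_eq_zero_or_eq_one.1 h2 with h3 | h3
    · exact absurd (by rw [h3]; rfl) h0
    · rw [h3]; rfl
  let O : Set (Points X.obj) := Set.range (Points.ofPt p)
  have hO : IsOpen O := (isOpenMap_ofPt_of_repWith
    (fun _ _ φ (_ : Etale φ) => Scheme.Hom.isOpenMap φ) hp).isOpen_range
  let ι := openSubι X.obj O
  have hι : RepWith @IsOpenImmersion ι := repWith_openSubι hO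
  have : Mono ι := mono_of_repWith (fun _ _ k (_ : IsOpenImmersion k) => inferInstance) hι
  let X' : Space S := ⟨openSub X.obj O, isAlgSpace_openSub X.property hO⟩
  obtain ⟨p', hp'⟩ := (openSub_exists_lift_iff X.obj O p).2 fun t => ⟨t, rfl⟩
  have hpe : RepWith @Etale p' := Groth.AlgSpCartier.repWith_of_comp_mono (i := ι) (by rw [hp']; exact hp)
  have hιinj : Function.Injective (Points.map ι) := injective_map_of_repWith
    (fun _ _ φ (_ : IsOpenImmersion φ) => φ.isOpenEmbedding.injective) hι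
  have hps : RepWith @Surjective p' := repWith_surjective_of_points hpe.rep fun z => by
    obtain ⟨t, ht⟩ := range_map_openSubι.le (⟨z, rfl⟩ : Points.map ι z ∈ Set.range (Points.map ι))
    refine ⟨Points.ofScheme U t, hιinj ?_⟩
    rw [← Points.map_comp, hp', ← ofPt_eq_map]
    exact ht
  obtain ⟨T, j, hT, hj, s, hs⟩ := exists_affine_nhd (X := X')
    (isSeparatedSp_of_repWith hsep
      (repWith_mono (fun _ _ k (_ : IsOpenImmersion k) => (inferInstance : IsSeparated k)) hι))
    hpe hps u h1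
  refine ⟨T, j ≫ ι, repWith_comp hj hι, s, ?_⟩
  rw [← Points.map_ofPt, hs, Points.map_ofPt, hp', hu]

theorem exists_affine_open_of_finset (hsep : IsSeparatedSp X.obj) (hN : IsLocNoethSp X.obj)
    (s : Finset (Points X.obj))
    (hs : ∀ x ∈ s, HasAt (fun U u => ringKrullDim ↥(U.presheaf.stalk u) ≤ 1) X.obj x) :
    ∃ (T : Over S) (j : (yon S).obj T ⟶ X.obj), IsAffine T.left ∧ RepWith @IsOpenImmersion j ∧
      ∀ x ∈ s, x ∈ Set.range (Points.ofPt j) := by
  classical
  obtain ⟨X', j, hj, hrep, hrange⟩ := exists_schematic_openSub X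
  obtain ⟨G, ⟨e⟩⟩ := exists_iso_of_representable X' hrep
  have hg : RepWith @IsOpenImmersion (e.hom ≫ j.hom) := repWith_comp (repWith_isIso _) hj
  have : Mono (e.hom ≫ j.hom) := mono_of_repWith (fun _ _ k (_ : IsOpenImmersion k) => inferInstance) hg
  have hge : RepWith @Etale (e.hom ≫ j.hom) :=
    repWith_mono (fun _ _ k (_ : IsOpenImmersion k) => (inferInstance : Etale k)) hg
  have : IsSeparated G.hom := isSeparated_hom_of_mono hsep (e.hom ≫ j.hom)
  have : G.left.IsSeparated := ⟨by rw [← terminal.comp_from G.hom]; infer_instance⟩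
  have : IsLocallyNoetherian G.left := Groth.AlgSp2.isLocallyNoetherian_of_etale X.property hN hge
  have hmem : ∀ x ∈ s, x ∈ Set.range (Points.ofPt (e.hom ≫ j.hom)) := by
    intro x hx
    obtain ⟨z, hz⟩ := hrange.ge (isSchematicPt_of_codim_le_one hsep hN (hs x hx))
    rw [← Groth.AlgSp2.SchematicFinLocFree.range_map_yon]
    exact ⟨Points.map e.inv z, by rw [← Points.map_comp, Iso.inv_hom_id_assoc, hz]⟩
  choose pre hpre using hmem
  let E : Finset ↥G.left := s.attach.image fun x => pre x.1 x.2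
  obtain ⟨A, hA, hEA⟩ := Groth.Agent.S0217.result G.left
    (fun O hO => by
      have : CompactSpace ↥(O : Scheme.{u}) := isCompact_iff_compactSpace.1 hO
      have : IsNoetherian (O : Scheme.{u}) := {}
      exact (inferInstance : NoetherianSpace ↥(O : Scheme.{u})).finite_irreducibleComponents)
    E fun z hz => by
      obtain ⟨⟨x, hx⟩, -, rfl⟩ := Finset.mem_image.1 hz
      refine ⟨inferInstance, ?_⟩
      obtain ⟨U₁, a₁, u₁, ha₁, hu₁, hd₁⟩ := hs x hx
      exact (inv_eq_of_ofPt_eq etaleInvariant_ringKrullDim X.property hge ha₁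
        ((hpre x hx).trans hu₁.symm)).le.trans hd₁
  let T : Over S := Over.mk (A.ι ≫ G.hom)
  let jA : T ⟶ G := Over.homMk A.ι rfl
  refine ⟨T, (yon S).map jA ≫ e.hom ≫ j.hom, hA,
    repWith_comp ((repWith_yon_map_iff _ jA).2 (inferInstanceAs (IsOpenImmersion A.ι))) hg,
    fun x hx => ⟨⟨pre x hx, hEA _ (Finset.mem_image.2 ⟨⟨x, hx⟩, Finset.mem_attach _ _, rfl⟩)⟩, ?_⟩⟩
  rw [ofPt_comp_yon]
  exact hpre x hx

end Groth.CodimOneAffine
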