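import Mathlib
import Groth.Agent.EtaleBase.FpqcDescent

/-!
# Separating closed subsets of affine opens by functions
-/

set_option autoImplicit false
set_option backward.isDefEq.respectTransparency false
set_option backward.isDefEq.respectTransparency.types false

universe u

open CategoryTheory AlgebraicGeometry TopologicalSpace

noncomputable section

namespace Groth.CodimOneAffine

variable {Y : Scheme.{u}} {U : Y.Opens}

/-- The functions vanishing on a subset. -/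
def vanishIdeal (U : Y.Opens) (C : Set Y) : Ideal Γ(Y, U) :=
  ⨅ (y : U) (_ : (y : Y) ∈ C),
    (IsLocalRing.maximalIdeal (Y.presheaf.stalk (y : Y))).comap (Y.presheaf.germ U y y.2).hom

theorem mem_vanishIdeal {C : Set Y} {f : Γ(Y, U)} :
    f ∈ vanishIdeal U C ↔ ∀ y ∈ U, y ∈ C → y ∉ Y.basicOpen f := by
  simp only [vanishIdeal, Ideal.mem_iInf, Ideal.mem_comap, IsLocalRing.mem_maximalIdeal]
  constructor
  · intro h y hy hC hD
    exact h ⟨y, hy⟩ hC ((Scheme.mem_basicOpen Y f y hy).1 hD)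
  · intro h y hC hD
    exact h y y.2 hC ((Scheme.mem_basicOpen Y f y y.2).2 hD)

/-- A basic open containing finitely many points and avoiding a closed set. -/
theorem exists_basicOpen_avoid (hU : IsAffineOpen U) {C : Set Y} (hC : IsClosed C) (F : Finset Y)
    (hF : ∀ y ∈ F, y ∈ U ∧ y ∉ C) :
    ∃ g : Γ(Y, U), (∀ y ∈ U, y ∈ C → y ∉ Y.basicOpen g) ∧ ∀ y ∈ F, y ∈ Y.basicOpen g := by
  classical
  rcases F.eq_empty_or_nonempty with rfl | ⟨y₀, hy₀⟩
  · exact ⟨0, fun y _ _ => by simp, by simp⟩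
  let P : F → Ideal Γ(Y, U) := fun y =>
    (IsLocalRing.maximalIdeal (Y.presheaf.stalk (y : Y))).comap (Y.presheaf.germ U y (hF y y.2).1).hom
  have hmem : ∀ y g, g ∈ P y ↔ (y : Y) ∉ Y.basicOpen g := fun y g => by
    rw [Scheme.mem_basicOpen Y g _ (hF y y.2).1]
    exact IsLocalRing.mem_maximalIdeal _
  have hnot : ¬ ((vanishIdeal U C : Ideal Γ(Y, U)) : Set Γ(Y, U)) ⊆
      ⋃ y ∈ ((Finset.univ : Finset F) : Set F), (P y : Set Γ(Y, U)) := fun hsub => by
    obtain ⟨y, -, hle⟩ := (Ideal.subset_union_prime_finite (Finset.univ : Finset F).finite_toSet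
      (f := P) ⟨y₀, hy₀⟩ ⟨y₀, hy₀⟩ fun y _ _ _ => Ideal.IsPrime.comap _).1 hsub
    obtain ⟨g, hg, hyg⟩ := hU.exists_basicOpen_le (V := ⟨Cᶜ, hC.isOpen_compl⟩)
      ⟨(y : Y), (hF y y.2).2⟩ (hF y y.2).1
    exact (hmem y g).1 (hle (mem_vanishIdeal.2 fun z _ hzC hzg => hg hzg hzC)) hyg
  obtain ⟨g, hg, hgP⟩ := Set.not_subset.1 hnot
  refine ⟨g, mem_vanishIdeal.1 hg, fun y hy => ?_⟩
  by_contra hn
  exact hgP (Set.mem_iUnion₂.2 ⟨⟨y, hy⟩, Finset.mem_coe.2 (Finset.mem_univ _), (hmem _ g).2 hn⟩)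

/-- A function separating two disjoint closed subsets. -/
theorem exists_basicOpen_separate (hU : IsAffineOpen U) {C T : Set Y} (hC : IsClosed C) (hT : IsClosed T)
    (h : ∀ y ∈ U, y ∈ C → y ∉ T) :
    ∃ g : Γ(Y, U), (∀ y ∈ U, y ∈ C → y ∉ Y.basicOpen g) ∧ ∀ y ∈ U, y ∈ T → y ∈ Y.basicOpen g := by
  have htop : vanishIdeal U C ⊔ vanishIdeal U T = ⊤ := by
    by_contra hne
    obtain ⟨m, hm, hle⟩ := Ideal.exists_le_maximal _ hne
    let p : PrimeSpectrum Γ(Y, U) := ⟨m, hm.isPrime⟩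
    have hyU : hU.fromSpec p ∈ U := hU.range_fromSpec.le ⟨p, rfl⟩
    have key : ∀ f ∈ m, hU.fromSpec p ∉ Y.basicOpen f := fun f hf hy => by
      have := (hU.fromSpec_preimage_basicOpen f).le (show p ∈ hU.fromSpec ⁻¹ᵁ Y.basicOpen f from hy)
      exact this hf
    have side : ∀ D : Set Y, IsClosed D → vanishIdeal U D ≤ m → hU.fromSpec p ∈ D := fun D hD hDm => by
      by_contra hn
      obtain ⟨f, hf, hyf⟩ := hU.exists_basicOpen_le (V := ⟨Dᶜ, hD.isOpen_compl⟩) ⟨_, hn⟩ hyU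
      exact key f (hDm (mem_vanishIdeal.2 fun z _ hzD hzf => hf hzf hzD)) hyf
    exact h _ hyU (side C hC (le_sup_left.trans hle)) (side T hT (le_sup_right.trans hle))
  obtain ⟨g, hg, t, ht, hgt⟩ := Submodule.mem_sup.1 (htop.ge (trivial : (1 : Γ(Y, U)) ∈ ⊤))
  refine ⟨g, mem_vanishIdeal.1 hg, fun y hy hyT => ?_⟩
  by_contra hn
  have h1 : Y.presheaf.germ U y hy g ∈ IsLocalRing.maximalIdeal _ :=
    (IsLocalRing.mem_maximalIdeal _).2 fun hu => hn ((Scheme.mem_basicOpen Y g y hy).2 hu)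
  have h2 : Y.presheaf.germ U y hy t ∈ IsLocalRing.maximalIdeal _ :=
    (IsLocalRing.mem_maximalIdeal _).2 fun hu =>
      (mem_vanishIdeal.1 ht) y hy hyT ((Scheme.mem_basicOpen Y t y hy).2 hu)
  have h3 := add_mem h1 h2
  rw [← map_add, hgt, map_one] at h3
  exact (IsLocalRing.mem_maximalIdeal _).1 h3 isUnit_one

/-- Affineness of an open from its intersections with affine opens covering an affine open above it. -/
theorem isAffineOpen_of_cover_inter {O Q : Y.Opens} (hQ : IsAffineOpen Q) (hOQ : O ≤ Q)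
    (h : ∀ y ∈ Q, y ∉ O → ∃ R : Y.Opens, y ∈ R ∧ R ≤ Q ∧ IsAffineOpen R ∧ IsAffineOpen (O ⊓ R)) :
    IsAffineOpen O := by
  have : IsAffine Q := hQ
  choose R hyR hRQ hR hOR using h
  let j : (O : Scheme.{u}) ⟶ Q := Y.homOfLE hOQ
  have : IsAffineHom j := by
    let I := Option {y : Q // (y : Y) ∉ O}
    let W : I → (Q : Scheme.{u}).Opens := fun
      | none => Q.ι ⁻¹ᵁ O
      | some y => Q.ι ⁻¹ᵁ R y.1.1 y.1.2 y.2
    have hW : iSup W = ⊤ := top_le_iff.1 fun z _ => by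
      by_cases hz : z.1 ∈ O
      · exact Opens.mem_iSup.2 ⟨none, hz⟩
      · exact Opens.mem_iSup.2 ⟨some ⟨z, hz⟩, hyR z.1 z.2 hz⟩
    have : IsZariskiLocalAtTarget (@IsAffineHom : MorphismProperty Scheme.{u}) :=
      HasAffineProperty.instIsZariskiLocalAtTarget
    refine IsZariskiLocalAtTarget.of_iSup_eq_top (P := (@IsAffineHom : MorphismProperty Scheme.{u})) W hW fun i => ?_
    cases i with
    | none =>
      have hsurj : Surjective (j ∣_ W none) := ⟨fun ⟨z, hz⟩ => by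
        refine ⟨⟨⟨z.1, hz⟩, ?_⟩, ?_⟩
        · show j ⟨z.1, hz⟩ ∈ Q.ι ⁻¹ᵁ O
          exact (congrArg (· ∈ O) (Scheme.homOfLE_apply hOQ ⟨z.1, hz⟩)).mpr hz
        · refine Subtype.ext (Subtype.ext ?_)
          show (((j ∣_ W none) ≫ (W none).ι ≫ Q.ι) _) = z.1
          rw [morphismRestrict_ι_assoc, show j ≫ Q.ι = O.ι from Y.homOfLE_ι hOQ]
          rfl⟩
      have : IsOpenImmersion (j ∣_ W none) := IsZariskiLocalAtTarget.restrict (P := @IsOpenImmersion)
        inferInstance _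
      have : IsIso (j ∣_ W none) := (isIso_iff_isOpenImmersion_and_surjective _).2 ⟨this, hsurj⟩
      infer_instance
    | some y =>
      have hWa : IsAffineOpen (W (some y)) := by
        rw [← (Q.ι).isAffineOpen_iff_of_isOpenImmersion, Scheme.Hom.image_preimage_eq_opensRange_inf, Scheme.Opens.opensRange_ι]
        rw [show Q ⊓ R y.1.1 y.1.2 y.2 = R y.1.1 y.1.2 y.2 from inf_eq_right.2 (hRQ _ _ _)]
        exact hR _ _ _
      have hpre : IsAffineOpen (j ⁻¹ᵁ W (some y)) := by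
        rw [← (O.ι).isAffineOpen_iff_of_isOpenImmersion]
        show IsAffineOpen (O.ι ''ᵁ (j ⁻¹ᵁ (Q.ι ⁻¹ᵁ R y.1.1 y.1.2 y.2)))
        rw [← Scheme.Hom.comp_preimage, show j ≫ Q.ι = O.ι from Y.homOfLE_ι hOQ,
          Scheme.Hom.image_preimage_eq_opensRange_inf, Scheme.Opens.opensRange_ι]
        exact hOR _ _ _
      have : IsAffine (W (some y)) := hWa
      have : IsAffine (j ⁻¹ᵁ W (some y)) := hpre
      infer_instance
  exact isAffine_of_isAffineHom j

/-- An open below an affine open is affine if it is so after a faithfully flat cover. -/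
theorem isAffineOpen_of_preimage {W : Scheme.{u}} (π : W ⟶ Y) [Flat π] [Surjective π] [IsAffineHom π]
    {O Q : Y.Opens} (hQ : IsAffineOpen Q) (hOQ : O ≤ Q) (hO : IsAffineOpen (π ⁻¹ᵁ O)) :
    IsAffineOpen O := by
  have hle : π ⁻¹ᵁ O ≤ π ⁻¹ᵁ Q := fun x hx => hOQ hx
  have : IsAffine Q := hQ
  have : IsAffine (π ⁻¹ᵁ Q) := hQ.preimage π
  have : IsAffine (π ⁻¹ᵁ O) := hO
  have sq : IsPullback (W.homOfLE hle) (π ∣_ O) (π ∣_ Q) (Y.homOfLE hOQ) := by
    refine IsPullback.of_right ?_ ?_ (isPullback_morphismRestrict π Q).flip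
    · rw [Scheme.homOfLE_ι, Scheme.homOfLE_ι]
      exact (isPullback_morphismRestrict π O).flip
    · rw [← cancel_mono Q.ι, Category.assoc, morphismRestrict_ι, Category.assoc, Scheme.homOfLE_ι,
        ← Category.assoc, Scheme.homOfLE_ι, morphismRestrict_ι]
  have h1 : Groth.EtaleBase.Fpqc (π ∣_ Q) :=
    ⟨⟨IsZariskiLocalAtTarget.restrict (P := @Surjective) ‹_› Q,
      IsZariskiLocalAtTarget.restrict (P := @Flat) ‹_› Q⟩, inferInstance⟩
  have h2 : IsAffineHom (W.homOfLE hle) := isAffineHom_of_isAffine _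
  have : IsAffineHom (Y.homOfLE hOQ) :=
    MorphismProperty.of_isPullback_of_descendsAlong (P := @IsAffineHom) (Q := Groth.EtaleBase.Fpqc)
      sq h1 h2
  exact isAffine_of_isAffineHom (Y.homOfLE hOQ)

end Groth.CodimOneAffine
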