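import Groth.Agent.CodimOneAffine.SchemeLemmas
import Groth.Agent.CodimOneAffine.NormImage
import Groth.Agent.S0217
import Groth.Agent.S10048
import Groth.Agent.AlgSp3.RedInduced
import Groth.Agent.AlgSp2.Chevalley.Main
import Groth.Agent.AlgSp2.SectionPoint
import Groth.Agent.AlgSpBasic.ColimitSep
import Groth.Agent.AlgSp2.InfSmallExt
import Groth.Agent.AlgSpBasic.DenseSchemeQS
import Groth.Agent.AlgSp2.SchematicFinLocFree
import Groth.Agent.AlgSpBasic.DecentCriteria
import Groth.Agent.AlgSp2.QfCodimOne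

/-!
# Affine neighbourhoods of points of codimension one in separated spaces
-/

set_option autoImplicit false
set_option backward.isDefEq.respectTransparency false
set_option backward.isDefEq.respectTransparency.types false

universe u

open CategoryTheory CategoryTheory.Limits AlgebraicGeometry Opposite TopologicalSpace AlgSp
open Groth.AlgSpBasic

noncomputable section

namespace Groth.CodimOneAffine

variable {S : Scheme.{u}}

theorem isQuasiSeparatedSp_of_sep {X : Sp S} (h : IsSeparatedSp X) : IsQuasiSeparatedSp X :=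
  repWith_mono (fun _ _ g (_ : IsClosedImmersion g) => (inferInstance : QuasiCompact g)) h

theorem isSeparatedMor_of_isSeparatedSp {F T : Sp S} (hT : IsTerminal T) (f : F ⟶ T)
    (h : IsSeparatedSp F) : IsSeparatedMor f := by
  have sq : IsPullback (prod.fst : F ⨯ F ⟶ F) prod.snd f f :=
    hT.hom_ext (hT.from F) f ▸ IsPullback.of_is_product' (prodIsProd F F) hT
  have e : pullback.diagonal f = Limits.diag F ≫ sq.isoPullback.hom := by
    apply pullback.hom_ext
    · rw [Category.assoc, sq.isoPullback_hom_fst, pullback.diagonal_fst, prod.lift_fst]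
    · rw [Category.assoc, sq.isoPullback_hom_snd, pullback.diagonal_snd, prod.lift_snd]
  show RepWith @IsClosedImmersion (pullback.diagonal f)
  rw [e]
  exact repWith_comp h (repWith_isIso _)

theorem isSeparatedSp_of_repWith {F G : Sp S} (hG : IsSeparatedSp G) {f : F ⟶ G}
    (hf : RepWith @IsSeparated f) : IsSeparatedSp F :=
  Groth.AlgSp2.SectionPoint.isSeparatedSp_of_isSeparatedMor (Groth.AlgSp2.SectionPoint.isTerminalYon S)
    (f ≫ (Groth.AlgSp2.SectionPoint.isTerminalYon S).from G)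
    (Groth.AlgSpBasic.ColimitSep.isSeparatedMor_comp ((Groth.AlgSp2.repWith_isSeparated_iff hf.rep).2 hf)
      (isSeparatedMor_of_isSeparatedSp (Groth.AlgSp2.SectionPoint.isTerminalYon S) _ hG))

/-- Stalk dimensions do not go up along finite morphisms. -/
theorem ringKrullDim_stalk_le_of_finite {W U : Scheme.{u}} (g : W ⟶ U) [IsFinite g] (w : W) :
    ringKrullDim (W.presheaf.stalk w) ≤ ringKrullDim (U.presheaf.stalk (g w)) := by
  rw [ringKrullDim_stalk_eq_coheight, ringKrullDim_stalk_eq_coheight]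
  refine WithBot.coe_le_coe.2 (Order.coheight_le_coheight_apply_of_strictMono g ?_ w)
  intro a b hab
  have h : b ⤳ a := hab.le
  refine lt_of_le_not_ge (show g b ⤳ g a from h.map g.continuous) fun hge => hab.not_ge ?_
  have hge' : g a ⤳ g b := hge
  obtain ⟨b', hb'a, hb'⟩ : ∃ b', a ⤳ b' ∧ g b' = g b := by
    have hcl : IsClosed (g '' closure {a}) := g.isClosedMap _ isClosed_closure
    obtain ⟨b', hb', e⟩ := (hge'.mem_closed hcl ⟨a, subset_closure rfl, rfl⟩ : g b ∈ g '' closure {a})
    exact ⟨b', specializes_iff_mem_closure.2 hb', e⟩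
  have hdis : _root_.IsDiscrete (g ⁻¹' {g b}) := g.isDiscrete_preimage_singleton _
  have : DiscreteTopology ↥(g ⁻¹' {g b}) := hdis.to_subtype
  have hbb : (⟨b, rfl⟩ : ↥(g ⁻¹' {g b})) = ⟨b', hb'⟩ :=
    ((subtype_specializes_iff _ _).2 (h.trans hb'a)).eq
  show a ⤳ b
  have e : b = b' := congrArg Subtype.val hbb
  rw [e]
  exact hb'a

variable {X : Space S}

/-- A point generalising a codimension one point is that point or has codimension zero. -/
theorem eq_or_dim_zero_of_specializes (hd : IsDecent X.obj) {U : Over S} {p : (yon S).obj U ⟶ X.obj}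
    (hp : RepWith @Etale p) {u : ↥U.left} (h1 : ringKrullDim (U.left.presheaf.stalk u) ≤ 1)
    {b : ↥U.left} (h : Points.ofPt p b ⤳ Points.ofPt p u) :
    Points.ofPt p b = Points.ofPt p u ∨ ringKrullDim (U.left.presheaf.stalk b) = 0 := by
  obtain ⟨b', hb'u, hb'⟩ := exists_specializes_of_finiteAt (finiteAt_of_isDecent hd _) hp h
  by_cases e : b' = u
  · exact Or.inl (by rw [← hb', e])
  right
  rw [inv_eq_of_ofPt_eq etaleInvariant_ringKrullDim X.property hp hp hb'.symm]
  rw [ringKrullDim_stalk_eq_coheight] at h1 ⊢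
  have h1' : Order.coheight u ≤ 1 := by exact_mod_cast h1
  have hlt : u < b' := lt_of_le_not_ge (show b' ⤳ u from hb'u)
    fun hh => e (hb'u.antisymm hh).eq
  have h2 : Order.coheight b' + 1 ≤ 1 := (Order.coheight_add_one_le hlt).trans h1'
  have h3 : Order.coheight b' = 0 := by
    rcases eq_or_ne (Order.coheight b') 0 with h3 | h3
    · exact h3
    · have h4 : 1 + 1 ≤ Order.coheight b' + 1 := by gcongr; exact Order.one_le_iff_ne_zero.2 h3
      exact absurd (h4.trans h2) (by decide)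
  rw [h3]
  rfl

theorem mem_primeIdealOf_top {W : Scheme.{u}} [IsAffine W] (v : W) (r : Γ(W, ⊤)) :
    r ∈ ((isAffineOpen_top W).primeIdealOf ⟨v, trivial⟩).asIdeal ↔ v ∉ W.basicOpen r := by
  have h := SetLike.ext_iff.1 ((isAffineOpen_top W).fromSpec_preimage_basicOpen r)
    ((isAffineOpen_top W).primeIdealOf ⟨v, trivial⟩)
  have hv : (isAffineOpen_top W).fromSpec ((isAffineOpen_top W).primeIdealOf ⟨v, trivial⟩) = v :=
    (isAffineOpen_top W).fromSpec_primeIdealOf _
  constructor
  · intro hr hvr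
    exact h.1 (show (isAffineOpen_top W).fromSpec _ ∈ W.basicOpen r from hv.symm ▸ hvr) hr
  · intro hn
    by_contra hr
    exact hn (hv ▸ (show (isAffineOpen_top W).fromSpec _ ∈ W.basicOpen r from h.2 hr))

theorem exists_affine_nhd [S.IsSeparated] (hsep : IsSeparatedSp X.obj) {U : Over S}
    [IsAffine U.left] [IsLocallyNoetherian U.left] {p : (yon S).obj U ⟶ X.obj}
    (hp : RepWith @Etale p) (hps : RepWith @Surjective p) (u : ↥U.left)
    (h1 : ringKrullDim (U.left.presheaf.stalk u) = 1) :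
    ∃ (T : Over S) (j : (yon S).obj T ⟶ X.obj), IsAffine T.left ∧ RepWith @IsOpenImmersion j ∧
      Points.ofPt p u ∈ Set.range (Points.ofPt j) := by
  classical
  set x := Points.ofPt p u with hx
  have hqs := isQuasiSeparatedSp_of_sep hsep
  have hd : IsDecent X.obj := isDecent_of_qs X.property hqs
  have : T0Space (Points X.obj) := t0Space_of_isDecent X.property hd
  have hqc : IsQuasiCompactSp X.obj := by
    refine (isQuasiCompactSp_iff_compactSpace X.property).2 ⟨?_⟩
    rw [← Set.range_eq_univ.2 (surjective_ofPt_of_repWith hps)]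
    exact isCompact_range (Points.continuous_ofPt p)
  -- a finite cover by a scheme
  obtain ⟨Y, f, hf₀, hfs, -, -⟩ := Groth.Agent.S10048.result S X hqc hqs U p hp hps
  have hf : RepWith @IsFinite f :=
    (Groth.AlgSp2.isFiniteMor_iff (IsAlgSpace.yon_obj Y) X.property).1 hf₀
  obtain ⟨W, g, q, sqW⟩ := hf.rep p
  have : IsFinite g.left := hf.property _ q g sqW
  have : IsAffine W.left := isAffine_of_isAffineHom g.left
  have : IsLocallyNoetherian W.left := LocallyOfFiniteType.isLocallyNoetherian g.left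
  obtain ⟨π, rfl⟩ := (yon S).map_surjective q
  have : Etale π.left := (repWith_yon_map_iff @Etale π).1 (repWith_of_isPullback sqW.flip hp)
  have : Surjective π.left := (repWith_yon_map_iff @Surjective π).1 (repWith_of_isPullback sqW.flip hps)
  have hπ : ∀ y, ∃ w, π.left w = y := π.left.surjective
  have : CompactSpace ↥Y.left := π.left.surjective.compactSpace π.left.continuous
  have : IsLocallyNoetherian Y.left := Groth.FlatMor2.isLocallyNoetherian_of_flat_surjective π.left
  have hYsep : IsSeparatedSp ((yon S).obj Y) := isSeparatedSp_of_repWith hsep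
    (repWith_mono (fun _ _ k (_ : IsFinite k) => (inferInstance : IsSeparated k)) hf)
  have : IsSeparated Y.hom := isSeparated_hom_of_mono hYsep (𝟙 _)
  have : Y.left.IsSeparated := ⟨by rw [← terminal.comp_from Y.hom]; infer_instance⟩
  have : IsNoetherian Y.left := {}
  let F : ↥Y.left → Points X.obj := Points.ofPt f
  have hFc : Continuous F := Points.continuous_ofPt f
  have hFcl : IsClosedMap F := by
    intro Z hZ
    have hcl := isClosedMap_map_of_repWith (fun _ _ φ (_ : IsFinite φ) => φ.isClosedMap) hf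
    have e : F '' Z = Points.map f '' (Points.schemeHomeo Y '' Z) := by
      rw [Set.image_image]
      exact Set.image_congr fun y _ => ofPt_eq_map f y
    rw [e]
    exact hcl _ ((Points.schemeHomeo Y).isClosedMap _ hZ)
  have hFπ : ∀ w, F (π.left w) = Points.ofPt p (g.left w) := fun w => by
    show Points.ofPt f (π.left w) = _
    rw [← ofPt_comp_yon, sqW.w, ofPt_comp_yon]
  have hlift : ∀ y v, F y = Points.ofPt p v → ∃ w, π.left w = y ∧ g.left w = v := by
    intro y v hyv
    obtain ⟨w, hw, hw'⟩ := (map_eq_ofPt_iff sqW (Points.schemeHomeo Y y) v).1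
      (by rw [← hyv]; exact (ofPt_eq_map f y).symm)
    exact ⟨w, (Points.schemeHomeo Y).injective ((ofPt_eq_map _ w).symm.trans hw |> fun e => by
      rw [← e]; exact (Points.map_yon_map_apply π w).symm.trans (ofPt_eq_map _ w).symm), hw'⟩
  -- an affine open containing the fibre
  obtain ⟨Fx, hFx⟩ : ∃ Fx : Finset ↥Y.left, ∀ y, y ∈ Fx ↔ F y = x := by
    have hfin : {y | F y = x}.Finite :=
      ((g.left.finite_preimage_singleton u).image π.left).subset fun y hy => by
        obtain ⟨w, hw, hw'⟩ := hlift y u hy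
        exact ⟨w, hw', hw⟩
    exact ⟨hfin.toFinset, fun y => hfin.mem_toFinset⟩
  have hdim : ∀ y ∈ Fx, IsNoetherianRing (Y.left.presheaf.stalk y) ∧
      ringKrullDim (Y.left.presheaf.stalk y) ≤ 1 := by
    intro y hy
    obtain ⟨w, rfl, hw⟩ := hlift y u ((hFx y).1 hy)
    refine ⟨inferInstance, ?_⟩
    exact (etaleInvariant_ringKrullDim π.left w).symm.le.trans
      ((ringKrullDim_stalk_le_of_finite g.left w).trans (hw ▸ h1.le))
  obtain ⟨V, hV, hFV⟩ := Groth.Agent.S0217.result Y.left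
    (fun O _ => (inferInstance : NoetherianSpace ↥(O : Set ↥Y.left)).finite_irreducibleComponents) Fx hdim
  -- the bad set
  let A := Γ(U.left, ⊤)
  let B := Γ(W.left, ⊤)
  algebraize [g.left.appTop.hom]
  have : Module.Finite A B := IsFinite.finite_app (f := g.left) ⊤ (isAffineOpen_top _)
  let good : U.left.Opens := ⨆ d : {d : A // PrincipalImages A B d}, U.left.basicOpen (d : A)
  let bad : Closeds ↥U.left := ⟨(good : Set ↥U.left)ᶜ, good.isOpen.isClosed_compl⟩
  have hbad : ∀ v ∈ bad, ringKrullDim (U.left.presheaf.stalk v) ≠ 0 := by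
    intro v hv h0
    refine hv ?_
    have hmin : ((isAffineOpen_top U.left).primeIdealOf ⟨v, trivial⟩).asIdeal ∈ minimalPrimes A := by
      have := (isAffineOpen_top U.left).isLocalization_stalk ⟨v, trivial⟩
      let _ : Algebra A (U.left.presheaf.stalk v) :=
        TopCat.Presheaf.algebra_section_stalk U.left.presheaf (U := ⊤) ⟨v, trivial⟩
      rw [IsLocalization.AtPrime.ringKrullDim_eq_height
        ((isAffineOpen_top U.left).primeIdealOf ⟨v, trivial⟩).asIdeal] at h0
      exact Ideal.height_eq_zero_iff.1 (by exact_mod_cast h0)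
    have : IsNoetherianRing A := IsLocallyNoetherian.component_noetherian ⟨⊤, isAffineOpen_top _⟩
    obtain ⟨d, hd, hdP⟩ := exists_principalImages (A := A) (B := B) _ hmin
    refine Opens.mem_iSup.2 ⟨⟨d, hdP⟩, ?_⟩
    have h2 : (isAffineOpen_top U.left).fromSpec ((isAffineOpen_top U.left).primeIdealOf ⟨v, trivial⟩) ∈
        U.left.basicOpen d := ((isAffineOpen_top U.left).fromSpec_preimage_basicOpen d).ge
      (show (isAffineOpen_top U.left).primeIdealOf ⟨v, trivial⟩ ∈ PrimeSpectrum.basicOpen d from hd)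
    rwa [IsAffineOpen.fromSpec_primeIdealOf] at h2
  have : IsNoetherian U.left := {}
  obtain ⟨s, hs, hsfin, hsU⟩ : ∃ s : Set ↥U.left, s ⊆ bad ∧ s.Finite ∧ (bad : Set ↥U.left) ⊆ ⋃ b ∈ s, closure {b} := by
    have : NoetherianSpace ↥(bad : Set ↥U.left) := inferInstance
    refine ⟨Subtype.val '' {z : ↥(bad : Set ↥U.left) | closure {z} ∈ irreducibleComponents _}, ?_, ?_, ?_⟩
    · rintro _ ⟨z, -, rfl⟩; exact z.2
    · refine (Set.Finite.of_finite_image (f := fun z : ↥(bad : Set ↥U.left) => closure {z}) ((NoetherianSpace.finite_irreducibleComponents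
        (α := ↥(bad : Set ↥U.left))).subset ?_) ?_).image _
      · rintro _ ⟨z, hz, rfl⟩; exact hz
      · intro a _ b _ (h : closure {a} = closure {b})
        have := bad.isClosed.isClosedEmbedding_subtypeVal.isEmbedding.t0Space
        exact (inseparable_iff_closure_eq.2 h).eq
    · intro v hv
      obtain ⟨C, hC, hsub⟩ := exists_mem_irreducibleComponents_subset_of_isIrreducible
        ({⟨v, hv⟩} : Set ↥(bad : Set ↥U.left)) isIrreducible_singleton
      have hvC := hsub (Set.mem_singleton _)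
      have := bad.isClosed.isClosedEmbedding_subtypeVal.quasiSober
      obtain ⟨z, hz⟩ := QuasiSober.sober hC.1 (isClosed_of_mem_irreducibleComponents _ hC)
      refine Set.mem_iUnion₂.2 ⟨z, ⟨z, show closure {z} ∈ _ by rw [hz]; exact hC, rfl⟩, ?_⟩
      exact specializes_iff_mem_closure.1 (((specializes_iff_mem_closure).2 (hz.symm ▸ hvC :
        (⟨v, hv⟩ : ↥(bad : Set ↥U.left)) ∈ closure {z})).map continuous_subtype_val)
  let R₁ : Set (Points X.obj) := ⋃ b ∈ {b ∈ s | Points.ofPt p b ≠ x}, closure {Points.ofPt p b}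
  have hR₁ : IsClosed R₁ := (hsfin.subset fun b hb => hb.1).isClosed_biUnion fun _ _ => isClosed_closure
  have hxR₁ : x ∉ R₁ := by
    intro h
    obtain ⟨b, ⟨hb, hbx⟩, hcl⟩ := Set.mem_iUnion₂.1 h
    rcases eq_or_dim_zero_of_specializes hd hp h1.le (specializes_iff_mem_closure.2 hcl) with e | e
    · exact hbx e
    · exact hbad b (hs hb) e
  have hgood : ∀ v, Points.ofPt p v ∉ R₁ → Points.ofPt p v ∉ closure {x} → v ∈ good := by
    intro v h₁ h₂
    by_contra hv
    obtain ⟨b, hb, hvb⟩ := Set.mem_iUnion₂.1 (hsU hv)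
    have hsp : Points.ofPt p v ∈ closure {Points.ofPt p b} :=
      specializes_iff_mem_closure.1 ((specializes_iff_mem_closure.2 hvb).map (Points.continuous_ofPt p))
    by_cases e : Points.ofPt p b = x
    · exact h₂ (e ▸ hsp)
    · exact h₁ (Set.mem_iUnion₂.2 ⟨b, ⟨hb, e⟩, hsp⟩)
  -- the closure of the point as a scheme
  obtain ⟨Z, i, hZ, hi, hrange, -⟩ := Groth.AlgSp3.exists_isRedInduced X.property
    (isClosed_closure : IsClosed (closure ({x} : Set (Points X.obj))))
  have : Mono i := mono_of_repWith (fun _ _ k (_ : IsClosedImmersion k) => inferInstance) hi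
  obtain ⟨x', hx'⟩ : x ∈ Set.range (Points.map i) := by rw [hrange]; exact subset_closure rfl
  have hZqs : IsQuasiSeparatedSp Z := isQuasiSeparatedSp_of_sep (isSeparatedSp_of_repWith hsep
    (repWith_mono (fun _ _ k (_ : IsClosedImmersion k) => (inferInstance : IsSeparated k)) hi))
  have hx'0 : HasAt (fun U u => ringKrullDim ↥(U.presheaf.stalk u) = 0) Z x' := by
    obtain ⟨UZ, ι, a, sqZ⟩ := hi.rep p
    have : IsClosedImmersion ι.left := hi.property _ a ι sqZ
    obtain ⟨z, hz, hzu⟩ := (map_eq_ofPt_iff sqZ x' u).1 hx'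
    refine ⟨UZ, a, z, repWith_of_isPullback sqZ.flip hp, hz, ringKrullDim_eq_zero_iff.2 fun z' hz' => ?_⟩
    have hcl : Points.ofPt p (ι.left z') ∈ closure {x} := by
      rw [← hrange]
      exact ⟨Points.ofPt a z', by rw [Points.map_ofPt, sqZ.w, ofPt_comp_yon]⟩
    have hsp : Points.ofPt p (ι.left z') ⤳ x := by
      rw [hx, ← hzu]
      exact (hz'.map ι.left.continuous).map (Points.continuous_ofPt p)
    have e : Points.ofPt p (ι.left z') = x :=
      (hsp.antisymm (specializes_iff_mem_closure.2 hcl)).eq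
    refine ι.left.isClosedEmbedding.injective (hzu ▸ ?_)
    by_contra hne
    have hlt : u < ι.left z' := lt_of_le_not_ge (show ι.left z' ⤳ u from hzu ▸ hz'.map ι.left.continuous)
      fun hh => hne ((hzu ▸ hz'.map ι.left.continuous : ι.left z' ⤳ u).antisymm hh).eq
    have hdz : ringKrullDim (U.left.presheaf.stalk (ι.left z')) = 1 :=
      (inv_eq_of_ofPt_eq etaleInvariant_ringKrullDim X.property hp hp e).trans h1
    rw [ringKrullDim_stalk_eq_coheight] at hdz h1
    have h3 := Order.coheight_add_one_le hlt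
    rw [show Order.coheight (ι.left z') = 1 by exact_mod_cast hdz,
      show Order.coheight u = 1 by exact_mod_cast h1] at h3
    exact absurd h3 (by decide)
  obtain ⟨G, gG, hgG, hxG⟩ := isSchematicPt_of_qs hZ hZqs hx'0
  obtain ⟨t₀, ht₀⟩ := hxG
  obtain ⟨DA, hDA, ht₀DA, -⟩ := exists_isAffineOpen_mem_and_subset (X := G.left) (x := t₀) (U := ⊤) trivial
  let TA₀ : Over S := Over.mk (DA.ι ≫ G.hom)
  let jA : TA₀ ⟶ G := Over.homMk DA.ι rfl
  let a : (yon S).obj TA₀ ⟶ X.obj := ((yon S).map jA ≫ gG) ≫ i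
  have hjA : RepWith @IsOpenImmersion ((yon S).map jA ≫ gG) :=
    repWith_comp ((repWith_yon_map_iff _ jA).2 (inferInstanceAs (IsOpenImmersion DA.ι))) hgG
  have : IsAffine TA₀.left := hDA
  let a₀ : ↥TA₀.left := ⟨t₀, ht₀DA⟩
  have ha₀ : Points.ofPt a a₀ = x := by
    show Points.ofPt (((yon S).map jA ≫ gG) ≫ i) a₀ = x
    rw [← Points.map_ofPt, ofPt_comp_yon, ← hx']
    exact congrArg _ ht₀
  -- the part of the closure outside the affine piece
  let RA : Set (Points X.obj) := Points.map i '' (Set.range (Points.ofPt ((yon S).map jA ≫ gG)))ᶜ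
  have hRA : IsClosed RA := isClosedMap_map_of_repWith
    (fun _ _ φ (_ : IsClosedImmersion φ) => φ.isClosedEmbedding.isClosedMap) hi _
    (isOpenMap_ofPt_of_repWith (fun _ _ φ (_ : IsOpenImmersion φ) => φ.isOpenEmbedding.isOpenMap)
      hjA).isOpen_range.isClosed_compl
  have hiinj : Function.Injective (Points.map i) := injective_map_of_repWith
    (fun _ _ φ (_ : IsClosedImmersion φ) => φ.isClosedEmbedding.injective) hi
  have haT : ∀ t, Points.ofPt a t ∈ closure {x} := fun t => hrange ▸ ⟨_, Points.map_ofPt ((yon S).map jA ≫ gG) i t⟩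
  have hTa : ∀ v ∈ closure {x}, v ∉ RA → v ∈ Set.range (Points.ofPt a) := by
    intro v hv hvR
    obtain ⟨z, rfl⟩ := hrange.ge hv
    by_contra hn
    exact hvR ⟨z, fun ⟨t, ht⟩ => hn ⟨t, by rw [← Points.map_ofPt, ht]⟩, rfl⟩
  have haR : ∀ t, Points.ofPt a t ∉ RA := by
    rintro t ⟨z, hz, e⟩
    refine hz ⟨t, hiinj ?_⟩
    rw [Points.map_ofPt]; exact e.symm
  -- pieces
  let R₀ : Set (Points X.obj) := R₁ ∪ RA ∪ F '' (V : Set ↥Y.left)ᶜ
  have hR₀ : IsClosed R₀ := (hR₁.union hRA).union (hFcl _ V.isOpen.isClosed_compl)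
  have hxR₀ : x ∉ R₀ := by
    rintro ((h | h) | ⟨y, hy, e⟩)
    · exact hxR₁ h
    · exact haR a₀ (ha₀ ▸ h)
    · exact hy (hFV y ((hFx y).2 e))
  obtain ⟨h₀, hh₀, hh₀F⟩ := exists_basicOpen_avoid hV (hR₀.preimage hFc) Fx
    fun y hy => ⟨hFV y hy, by rw [Set.mem_preimage, (hFx y).1 hy]; exact hxR₀⟩
  set D₀ := Y.left.basicOpen h₀ with hD₀def
  have hD₀ : IsAffineOpen D₀ := hV.basicOpen h₀
  have hD₀R : ∀ y ∈ D₀, F y ∉ R₀ := fun y hy h => hh₀ y (Y.left.basicOpen_le h₀ hy) h hy
  obtain ⟨TY, qA, sY, sqT⟩ := hf.rep a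
  obtain ⟨iT, rfl⟩ := (yon S).map_surjective sY
  have : IsFinite qA.left := hf.property _ ((yon S).map iT) qA sqT
  have hai : RepWith @IsImmersion a := repWith_comp
    (repWith_mono (fun _ _ k (_ : IsOpenImmersion k) => (inferInstance : IsImmersion k)) hjA)
    (repWith_mono (fun _ _ k (_ : IsClosedImmersion k) => (inferInstance : IsImmersion k)) hi)
  have : IsImmersion iT.left := (repWith_yon_map_iff @IsImmersion iT).1 (repWith_of_isPullback sqT.flip hai)
  have hFT : ∀ t, F (iT.left t) = Points.ofPt a (qA.left t) := fun t => by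
    show Points.ofPt f (iT.left t) = _
    rw [← ofPt_comp_yon, sqT.w, ofPt_comp_yon]
  have hliftT : ∀ y t', F y = Points.ofPt a t' → ∃ t, iT.left t = y ∧ qA.left t = t' := by
    intro y v hyv
    obtain ⟨w, hw, hw'⟩ := (map_eq_ofPt_iff sqT (Points.schemeHomeo Y y) v).1
      (by rw [← hyv]; exact (ofPt_eq_map f y).symm)
    exact ⟨w, (Points.schemeHomeo Y).injective ((ofPt_eq_map _ w).symm.trans hw |> fun e => by
      rw [← e]; exact (Points.map_yon_map_apply iT w).symm.trans (ofPt_eq_map _ w).symm), hw'⟩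
  have hclosedT : IsClosed {y : D₀ | F y.1 ∈ closure {x}} :=
    isClosed_closure.preimage (hFc.comp continuous_subtype_val)
  have : IsClosedImmersion (iT.left ∣_ D₀) := by
    have : IsPreimmersion (iT.left ∣_ D₀) := IsZariskiLocalAtTarget.restrict
      (P := @IsPreimmersion) (inferInstance : IsPreimmersion iT.left) D₀
    refine IsClosedImmersion.of_isPreimmersion _ ?_
    rw [show Set.range (iT.left ∣_ D₀) = D₀.ι ⁻¹' (F ⁻¹' closure {x}) from ?_]
    · exact (isClosed_closure.preimage hFc).preimage D₀.ι.continuous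
    apply Set.ext
    intro y
    constructor
    · rintro ⟨t, rfl⟩
      show F (D₀.ι ((iT.left ∣_ D₀) t)) ∈ closure {x}
      rw [← Scheme.Hom.comp_apply, morphismRestrict_ι, Scheme.Hom.comp_apply, hFT]
      exact haT _
    · intro hy
      obtain ⟨t', ht'⟩ := hTa _ hy fun h => hD₀R y.1 y.2 (Or.inl (Or.inr h))
      obtain ⟨t, ht, -⟩ := hliftT y.1 t' ht'.symm
      have htD : t ∈ iT.left ⁻¹ᵁ D₀ := by show iT.left t ∈ D₀; rw [ht]; exact y.2
      refine ⟨⟨t, htD⟩, Subtype.ext ?_⟩
      show D₀.ι ((iT.left ∣_ D₀) ⟨t, htD⟩) = y.1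
      rw [← Scheme.Hom.comp_apply, morphismRestrict_ι]
      exact ht
  have : IsAffine D₀ := hD₀
  let C₀ : Set ↥TA₀.left := Points.ofPt a ⁻¹' (F '' (D₀ : Set ↥Y.left)ᶜ)
  have hC₀ : IsClosed C₀ := (hFcl _ D₀.isOpen.isClosed_compl).preimage (Points.continuous_ofPt a)
  obtain ⟨c, hc, hca⟩ := exists_basicOpen_avoid (isAffineOpen_top TA₀.left) hC₀ {a₀} fun t ht => by
    rw [Finset.mem_singleton] at ht
    refine ⟨trivial, ?_⟩
    rintro ⟨y, hy, e⟩
    rw [ht, ha₀] at e
    exact hy (hh₀F y ((hFx y).2 e))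
  let cT : Γ((iT.left ⁻¹ᵁ D₀ : TY.left.Opens).toScheme, ⊤) :=
    ((iT.left ⁻¹ᵁ D₀).ι ≫ qA.left).appTop c
  obtain ⟨el, hel⟩ := (iT.left ∣_ D₀).app_surjective ⊤ (isAffineOpen_top _) cT
  let V' : Y.left.Opens := D₀.ι ''ᵁ ((D₀ : Scheme.{u}).basicOpen el)
  have hV' : IsAffineOpen V' :=
    ((isAffineOpen_top (D₀ : Scheme.{u})).basicOpen el).image_of_isOpenImmersion D₀.ι
  have hV'D : V' ≤ D₀ := by rintro _ ⟨y, -, rfl⟩; exact y.2
  -- membership
  have hmemV' : ∀ t, iT.left t ∈ D₀ → (iT.left t ∈ V' ↔ qA.left t ∈ TA₀.left.basicOpen c) := by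
    intro t ht
    have e1 : (⟨t, ht⟩ : ↥(iT.left ⁻¹ᵁ D₀)) ∈ (iT.left ∣_ D₀) ⁻¹ᵁ ((D₀ : Scheme.{u}).basicOpen el) ↔
        (⟨t, ht⟩ : ↥(iT.left ⁻¹ᵁ D₀)) ∈ ((iT.left ⁻¹ᵁ D₀).ι ≫ qA.left) ⁻¹ᵁ TA₀.left.basicOpen c := by
      rw [Scheme.preimage_basicOpen_top, Scheme.preimage_basicOpen_top]
      change _ ∈ Scheme.basicOpen _ ((iT.left ∣_ D₀).appTop el) ↔ _
      rw [show (iT.left ∣_ D₀).appTop el = cT from hel]
    refine Iff.trans ?_ e1
    constructor
    · rintro ⟨y, hy, e⟩
      have : (iT.left ∣_ D₀) ⟨t, ht⟩ = y := Subtype.ext (by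
        show D₀.ι ((iT.left ∣_ D₀) ⟨t, ht⟩) = D₀.ι y
        rw [← Scheme.Hom.comp_apply, morphismRestrict_ι]
        exact e.symm)
      show (iT.left ∣_ D₀) ⟨t, ht⟩ ∈ (D₀ : Scheme.{u}).basicOpen el
      rw [this]; exact hy
    · intro h
      exact ⟨_, h, by
        show D₀.ι ((iT.left ∣_ D₀) ⟨t, ht⟩) = _
        rw [← Scheme.Hom.comp_apply, morphismRestrict_ι]; rfl⟩
  have hsat : ∀ y y', F y = F y' → F y ∈ closure {x} → y ∈ V' → y' ∈ V' := by
    intro y y' e hyT hy
    obtain ⟨t', ht'⟩ := hTa _ hyT fun h => hD₀R y (hV'D hy) (Or.inl (Or.inr h))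
    obtain ⟨t, rfl, htq⟩ := hliftT y t' ht'.symm
    have hc' : qA.left t ∈ TA₀.left.basicOpen c := (hmemV' t (hV'D hy)).1 hy
    obtain ⟨t₂, rfl, ht₂⟩ := hliftT y' t' (e ▸ ht'.symm)
    have hD₂ : iT.left t₂ ∈ D₀ := by
      by_contra hn
      exact hc t' trivial ⟨_, hn, e ▸ ht'.symm⟩ (htq ▸ hc')
    exact (hmemV' t₂ hD₂).2 (ht₂.symm ▸ htq ▸ hc')
  have hxV' : ∀ y, F y = x → y ∈ V' := by
    intro y hy
    obtain ⟨t, rfl, ht⟩ := hliftT y a₀ (hy.trans ha₀.symm)
    exact (hmemV' t (hh₀F _ ((hFx _).2 hy))).2 (ht ▸ hca a₀ (Finset.mem_singleton_self _))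
  let R₂ : Set (Points X.obj) := R₀ ∪ F '' (V' : Set ↥Y.left)ᶜ
  have hR₂ : IsClosed R₂ := hR₀.union (hFcl _ V'.isOpen.isClosed_compl)
  obtain ⟨h, hh, hhT⟩ := exists_basicOpen_separate hV' (hR₂.preimage hFc)
    ((isClosed_closure (s := ({x} : Set (Points X.obj)))).preimage hFc) fun y hy hyR hyT => by
      rcases hyR with h | ⟨y', hy', e⟩
      · exact hD₀R y (hV'D hy) h
      · exact hy' (hsat y y' e.symm hyT hy)
  set Dh := Y.left.basicOpen h with hDhdef
  have hDh : IsAffineOpen Dh := hV'.basicOpen h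
  let C : Set (Points X.obj) := F '' (Dh : Set ↥Y.left)ᶜ
  have hC : IsClosed C := hFcl _ Dh.isOpen.isClosed_compl
  let O : Set (Points X.obj) := Cᶜ
  let YO : Y.left.Opens := ⟨F ⁻¹' O, hC.isOpen_compl.preimage hFc⟩
  have hYOle : YO ≤ Dh := fun y hy => by
    by_contra hn
    exact hy ⟨y, hn, rfl⟩
  have hxO : x ∈ O := by
    rintro ⟨y, hy, e⟩
    exact hy (hhT y (hxV' y e) (by rw [Set.mem_preimage, e]; exact subset_closure rfl))
  -- affineness
  have : IsAffineHom π.left := IsAffineHom.of_comp π.left (terminal.from Y.left)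
  have hQ : IsAffineOpen (π.left ⁻¹ᵁ Dh) := hDh.preimage π.left
  have hYO : IsAffineOpen YO := by
    refine isAffineOpen_of_preimage π.left hDh hYOle (isAffineOpen_of_cover_inter hQ
      (fun w hw => hYOle hw) fun w hwQ hwO => ?_)
    set v := g.left w with hv
    have hwM : F (π.left w) ∉ R₂ := fun hR => hh _ (Y.left.basicOpen_le h hwQ) hR hwQ
    -- the image avoids the closure of the point
    have hwT : F (π.left w) ∉ closure {x} := by
      intro hT
      refine hwO ?_
      rintro ⟨y', hy', e⟩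
      have hy'V : y' ∈ V' := by
        by_contra hn
        exact hwM (Or.inr ⟨y', hn, e⟩)
      exact hy' (hhT y' hy'V (by rw [Set.mem_preimage, e]; exact hT))
    have hvgood : v ∈ good := hgood v (by rw [← hFπ]; exact fun hh' => hwM (Or.inl (Or.inl (Or.inl hh'))))
      (by rw [← hFπ]; exact hwT)
    obtain ⟨⟨d, hd'⟩, hvd⟩ := Opens.mem_iSup.1 hvgood
    obtain ⟨e, he, hve⟩ := (isAffineOpen_top U.left).exists_basicOpen_le
      (V := U.left.basicOpen d ⊓ ⟨Points.ofPt p ⁻¹' R₂ᶜ, hR₂.isOpen_compl.preimage (Points.continuous_ofPt p)⟩)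
      ⟨v, hvd, show Points.ofPt p v ∈ R₂ᶜ by rw [hv, ← hFπ]; exact hwM⟩ trivial
    let R := g.left ⁻¹ᵁ U.left.basicOpen e
    have hR : IsAffineOpen R := ((isAffineOpen_top U.left).basicOpen e).preimage g.left
    have hRV : R ≤ π.left ⁻¹ᵁ V' := fun z hz => by
      by_contra hn
      exact (he hz).2 (Or.inr ⟨π.left z, hn, hFπ z⟩)
    -- the equation of `h` on this piece comes from a global function
    let hW : Γ(W.left, π.left ⁻¹ᵁ V') := π.left.app V' h
    have hRtop : R = W.left.basicOpen (g.left.appTop e) := Scheme.preimage_basicOpen_top g.left e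
    obtain ⟨k, b, hb⟩ := exists_eq_pow_mul_of_isCompact_of_isQuasiSeparated W.left ⊤
      CompactSpace.isCompact_univ (IsQuasiSeparated.of_quasiSeparatedSpace _) (g.left.appTop e)
      (W.left.presheaf.map (homOfLE (hRtop.ge.trans hRV)).op hW)
    have hbR : ∀ z ∈ R, z ∈ W.left.basicOpen b ↔ π.left z ∈ Dh := by
      intro z hz
      have e1 : W.left.basicOpen (g.left.appTop e) ⊓ W.left.basicOpen b =
          W.left.basicOpen (g.left.appTop e) ⊓ π.left ⁻¹ᵁ Dh := by
        rw [← Scheme.basicOpen_res _ b (homOfLE (W.left.basicOpen_le _)).op]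
        change W.left.basicOpen (b |_ W.left.basicOpen (g.left.appTop e)) = _
        have hu : IsUnit ((g.left.appTop e |_ W.left.basicOpen (g.left.appTop e)) ^ k) :=
          (W.left.toRingedSpace.isUnit_res_basicOpen _).pow k
        rw [hb, Scheme.basicOpen_mul, W.left.basicOpen_of_isUnit hu, Scheme.basicOpen_res,
          hDhdef, Scheme.preimage_basicOpen]
        exact le_antisymm inf_le_right (le_inf inf_le_left le_rfl)
      have hz' : z ∈ W.left.basicOpen (g.left.appTop e) := hRtop ▸ hz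
      exact ⟨fun hzb => (e1.le ⟨hz', hzb⟩).2, fun hzD => (e1.ge ⟨hz', hzD⟩).2⟩
    obtain ⟨c', hc'⟩ := hd' b
    have hmemC : ∀ z ∈ R, (F (π.left z) ∈ C ↔ g.left z ∉ U.left.basicOpen c') := by
      intro z hz
      let q := (isAffineOpen_top U.left).primeIdealOf ⟨g.left z, trivial⟩
      have hmem : ∀ r : A, r ∈ q.asIdeal ↔ g.left z ∉ U.left.basicOpen r :=
        mem_primeIdealOf_top (g.left z)
      have hmemW : ∀ (z' : ↥W.left) (r : B), r ∈ ((isAffineOpen_top W.left).primeIdealOf ⟨z', trivial⟩).asIdeal ↔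
          z' ∉ W.left.basicOpen r := fun z' r => mem_primeIdealOf_top z' r
      have hover : ∀ (z' : ↥W.left),
          ((isAffineOpen_top W.left).primeIdealOf ⟨z', trivial⟩).asIdeal.comap (algebraMap A B) =
            ((isAffineOpen_top U.left).primeIdealOf ⟨g.left z', trivial⟩).asIdeal := fun z' => by
        ext r
        rw [Ideal.mem_comap, hmemW, mem_primeIdealOf_top]
        show z' ∉ W.left.basicOpen (g.left.appTop r) ↔ _
        rw [← Scheme.preimage_basicOpen_top]
        rfl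
      have hdq : d ∉ q.asIdeal := fun hh' => (hmem d).1 hh' (he hz).1
      rw [← hmem c', ← hc' q.asIdeal q.isPrime hdq]
      constructor
      · rintro ⟨y', hy', hy'e⟩
        obtain ⟨z', rfl, hz'⟩ := hlift y' (g.left z) (hy'e.trans (hFπ z))
        refine ⟨_, ((isAffineOpen_top W.left).primeIdealOf ⟨z', trivial⟩).isPrime, ?_, (hmemW z' b).2 ?_⟩
        · rw [hover z']; simp only [hz', q]
        · intro hzb
          have hz'R : z' ∈ R := by
            show g.left z' ∈ U.left.basicOpen e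
            rw [hz']; exact hz
          exact hy' ((hbR z' hz'R).1 hzb)
      · rintro ⟨P, hP, hPq, hbP⟩
        let z' := (isAffineOpen_top W.left).fromSpec ⟨P, hP⟩
        have hPz : (isAffineOpen_top W.left).primeIdealOf ⟨z', trivial⟩ = ⟨P, hP⟩ :=
          (isAffineOpen_top W.left).fromSpec.isOpenEmbedding.injective
            ((isAffineOpen_top W.left).fromSpec_primeIdealOf _)
        have hz' : g.left z' = g.left z := by
          have h2 : (isAffineOpen_top U.left).primeIdealOf ⟨g.left z', trivial⟩ = q :=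
            PrimeSpectrum.ext ((hover z').symm.trans (by rw [hPz]; exact hPq))
          have := congrArg (isAffineOpen_top U.left).fromSpec h2
          simpa only [IsAffineOpen.fromSpec_primeIdealOf, q] using this
        have hz'R : z' ∈ R := by
          show g.left z' ∈ U.left.basicOpen e
          rw [hz']; exact hz
        refine ⟨π.left z', fun hD => ?_, by rw [hFπ, hFπ, hz']⟩
        exact (hmemW z' b).1 (by rw [hPz]; exact hbP) ((hbR z' hz'R).2 hD)
    refine ⟨π.left ⁻¹ᵁ Dh ⊓ R, ⟨hwQ, hve⟩, inf_le_left, ?_, ?_⟩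
    · obtain ⟨r, hr⟩ : ∃ r : Γ(W.left, R), W.left.basicOpen r = π.left ⁻¹ᵁ Dh ⊓ R :=
        ⟨W.left.presheaf.map (homOfLE hRV).op hW, by
          rw [Scheme.basicOpen_res, inf_comm]
          show W.left.basicOpen (π.left.app V' h) ⊓ R = _
          rw [← Scheme.preimage_basicOpen]⟩
      exact hr ▸ hR.basicOpen r
    · have e2 : π.left ⁻¹ᵁ YO ⊓ (π.left ⁻¹ᵁ Dh ⊓ R) = R ⊓ g.left ⁻¹ᵁ U.left.basicOpen c' := by
        ext z
        constructor
        · rintro ⟨hzO, -, hzR⟩
          refine ⟨hzR, ?_⟩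
          by_contra hn
          exact hzO ((hmemC z hzR).2 hn)
        · rintro ⟨hzR, hzc⟩
          have hzO : z ∈ π.left ⁻¹ᵁ YO := fun hh' => (hmemC z hzR).1 hh' hzc
          exact ⟨hzO, hYOle hzO, hzR⟩
      rw [e2, Scheme.preimage_basicOpen_top, ← Scheme.basicOpen_res _ _ (homOfLE le_top).op]
      exact hR.basicOpen _
  -- descend to the space
  let ι := openSubι X.obj O
  have hι : RepWith @IsOpenImmersion ι := repWith_openSubι hC.isOpen_compl
  obtain ⟨TO, tY, qO, sqO⟩ := hι.rep f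
  have : IsOpenImmersion tY.left := hι.property _ qO tY sqO
  have hrTO : tY.left.opensRange = YO := by
    ext y
    constructor
    · rintro ⟨t, rfl⟩
      show F (tY.left t) ∈ O
      show Points.ofPt f (tY.left t) ∈ O
      rw [← ofPt_comp_yon, ← sqO.w, ← Points.map_ofPt]
      exact range_map_openSubι.le ⟨_, rfl⟩
    · intro hy
      obtain ⟨z, hz⟩ : F y ∈ Set.range (Points.map ι) := by rw [range_map_openSubι]; exact hy
      obtain ⟨t, -, ht⟩ := (map_eq_ofPt_iff sqO z y).1 hz
      exact ⟨t, ht⟩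
  have : IsAffine TO.left := by
    have : IsAffine tY.left.opensRange := by rw [hrTO]; exact hYO
    exact IsAffine.of_isIso tY.left.isoOpensRange.hom
  have hqOf : RepWith @IsFinite qO := repWith_of_isPullback sqO.flip hf
  have hqOs : IsSurjectiveMor qO := fun z => by
    obtain ⟨y, hy⟩ := hfs (Points.map ι z)
    obtain ⟨t, ht, -⟩ := exists_point_of_isPullback sqO z y hy.symm
    exact ⟨t, ht⟩
  obtain ⟨T, hT, ⟨e⟩⟩ := Groth.AlgSp2.Chevalley.exists_iso_affine
    (isAlgSpace_openSub X.property hC.isOpen_compl) hqOs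
    (Groth.AlgSp2.Chevalley.isUnivClosedMor_of_repWith
      (repWith_mono (fun _ _ k (_ : IsFinite k) => (inferInstance : UniversallyClosed k)) hqOf))
  refine ⟨T, e.hom ≫ ι, hT, repWith_comp (repWith_isIso _) hι, ?_⟩
  rw [← Groth.AlgSp2.SchematicFinLocFree.range_map_yon]
  obtain ⟨z, hz⟩ : x ∈ Set.range (Points.map ι) := by rw [range_map_openSubι]; exact hxO
  exact ⟨Points.map e.inv z, by rw [← Points.map_comp, Iso.inv_hom_id_assoc, hz]⟩

end Groth.CodimOneAffine
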